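import Cfsg.Agent.Lib.CoreFree.ZTwoSymFour.Model
import Cfsg.Agent.Lib.SectRank.DihedralEight
import Cfsg.Agent.Lib.CoreFree.Constrained
import Cfsg.Prelude.Def_Local
import Cfsg.Agent.Lib.SectRank.SylowInter

/-! # Groups with an involution centraliser `Z₂ × S₄` and small centralisers of double transpositions -/

set_option autoImplicit false

open CfsgLib.Involutions

namespace CfsgLib.CoreFree.ZTwoSymFour

/-- An involution `t` with centraliser `Z₂ × S₄`, central in a Sylow 2-subgroup, double transpositions having centraliser of order 16. -/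
structure Setup (G : Type*) [Group G] where
  ψ : Model →* G
  inj : Function.Injective ψ
  range : ∀ g, g * ψ c = ψ c * g → ∃ m, ψ m = g
  vcent : ∀ v, IsV v → ∀ g, g * ψ v = ψ v * g → ∃ m, m * v = v * m ∧ ψ m = g
  sylow : ∀ S : Sylow 2 G, Nat.card (S : Subgroup G) = 16

variable {G : Type*} [Group G]

namespace Setup

variable (P : Setup G)
include P

/-- The distinguished involution. -/
def t : G := P.ψ c

theorem ord_t : orderOf P.t = 2 := by
  rw [t, orderOf_injective P.ψ P.inj]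
  exact orderOf_eq_two_iff.2 ⟨by decide +kernel, by decide +kernel⟩

theorem comm_t (m : Model) : P.ψ m * P.t = P.t * P.ψ m := by
  rw [t, ← map_mul, ← map_mul, c_central]

theorem ord_of_sq {m : Model} (h1 : m * m = 1) (h2 : m ≠ 1) : orderOf (P.ψ m) = 2 := by
  rw [orderOf_injective P.ψ P.inj]; exact orderOf_eq_two_iff.2 ⟨h1, h2⟩

/-- The Sylow 2-subgroup centralising a double transposition. -/
def TV (v : Model) : Subgroup G := (Subgroup.centralizer ({v} : Set Model)).map P.ψ

theorem mem_TV {v : Model} {g : G} : g ∈ P.TV v ↔ ∃ m, m * v = v * m ∧ P.ψ m = g :=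
  ⟨fun ⟨m, hm, e⟩ => ⟨m, mem_centralizer_singleton.1 hm, e⟩,
    fun ⟨m, hm, e⟩ => ⟨m, mem_centralizer_singleton.2 hm, e⟩⟩

theorem card_TV {v : Model} (hv : IsV v) : Nat.card (P.TV v) = 16 := by
  classical
  rw [TV, Subgroup.card_map_of_injective P.inj, Nat.card_eq_fintype_card]
  rw [Fintype.card_subtype]
  rw [← card_cent_V v hv]
  congr 1
  ext m
  simp only [Finset.mem_filter, Finset.mem_univ, true_and]
  exact mem_centralizer_singleton

theorem centralizer_V {v : Model} (hv : IsV v) :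
    Subgroup.centralizer ({P.ψ v} : Set G) = P.TV v := by
  ext g
  rw [mem_centralizer_singleton, P.mem_TV]
  refine ⟨P.vcent v hv g, ?_⟩
  rintro ⟨m, hm, rfl⟩
  rw [← map_mul, ← map_mul, hm]

/-- The Sylow 2-subgroup centralising a double transposition. -/
noncomputable def syl [Finite G] {v : Model} (hv : IsV v) : Sylow 2 G :=
  haveI := Fact.mk Nat.prime_two
  Classical.choose (IsPGroup.exists_le_sylow
    (IsPGroup.of_card (p := 2) (n := 4) (P.card_TV hv) : IsPGroup 2 (P.TV v)))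

theorem coe_syl [Finite G] {v : Model} (hv : IsV v) : (P.syl hv : Subgroup G) = P.TV v := by
  haveI := Fact.mk Nat.prime_two
  refine (Subgroup.eq_of_le_of_card_ge (Classical.choose_spec (IsPGroup.exists_le_sylow
    (IsPGroup.of_card (p := 2) (n := 4) (P.card_TV hv) : IsPGroup 2 (P.TV v)))) ?_).symm
  rw [P.card_TV hv]
  exact (P.sylow _).le

theorem dvd_card [Finite G] : 16 ∣ Nat.card G := by
  obtain ⟨S⟩ := (inferInstance : Nonempty (Sylow 2 G))
  exact P.sylow S ▸ Subgroup.card_subgroup_dvd_card _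

theorem not_dvd_card [Finite G] : ¬ 32 ∣ Nat.card G := by
  haveI := Fact.mk Nat.prime_two
  intro h
  obtain ⟨S⟩ := (inferInstance : Nonempty (Sylow 2 G))
  have h1 := (Nat.prime_two.pow_dvd_iff_le_factorization (k := 5) Nat.card_pos.ne').1 h
  have h2 := S.card_eq_multiplicity
  rw [P.sylow S] at h2
  have := Nat.pow_le_pow_right (show 0 < 2 by norm_num) h1
  omega

theorem card_centralizer_t [Finite G] : Nat.card (Subgroup.centralizer ({P.t} : Set G)) = 48 := by
  have e : Subgroup.centralizer ({P.t} : Set G) = P.ψ.range := by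
    ext g
    rw [mem_centralizer_singleton, MonoidHom.mem_range]
    exact ⟨P.range g, by rintro ⟨m, rfl⟩; exact P.comm_t m⟩
  rw [e, ← Nat.card_congr (MonoidHom.ofInjective P.inj).toEquiv, Nat.card_eq_fintype_card, card_model]

theorem card_centralizer_V [Finite G] {v : Model} (hv : IsV v) :
    Nat.card (Subgroup.centralizer ({P.ψ v} : Set G)) = 16 := by
  rw [P.centralizer_V hv, P.card_TV hv]

theorem not_conj_V [Finite G] {v : Model} (hv : IsV v) (g : G) : g * P.t * g⁻¹ ≠ P.ψ v := by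
  intro e
  have h := P.card_centralizer_V hv
  rw [← e] at h
  have e2 : Subgroup.centralizer ({g * P.t * g⁻¹} : Set G) =
      (Subgroup.centralizer ({P.t} : Set G)).map (MulAut.conj g).toMonoidHom := by
    ext x
    rw [mem_centralizer_singleton, Subgroup.mem_map]
    constructor
    · intro hx
      refine ⟨g⁻¹ * x * g, mem_centralizer_singleton.2 ?_, by simp [mul_assoc]⟩
      calc g⁻¹ * x * g * P.t = g⁻¹ * (x * (g * P.t * g⁻¹)) * g := by group
        _ = g⁻¹ * (g * P.t * g⁻¹ * x) * g := by rw [hx]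
        _ = P.t * (g⁻¹ * x * g) := by group
    · rintro ⟨y, hy, rfl⟩
      show g * y * g⁻¹ * (g * P.t * g⁻¹) = g * P.t * g⁻¹ * (g * y * g⁻¹)
      calc g * y * g⁻¹ * (g * P.t * g⁻¹) = g * (y * P.t) * g⁻¹ := by group
        _ = _ := by rw [mem_centralizer_singleton.1 hy]; group
  rw [e2, Subgroup.card_map_of_injective (MulAut.conj g).injective, P.card_centralizer_t] at h
  omega

/-- No nontrivial normal subgroup has odd order. -/
theorem eq_bot_of_odd [Finite G] (N : Subgroup G) [N.Normal] (hN : Odd (Nat.card N)) : N = ⊥ := by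
  have key : ∀ v, IsV v → ∀ a ∈ N, P.ψ v * a * (P.ψ v)⁻¹ = a⁻¹ := by
    intro v hv a ha
    refine CfsgLib.SectRank.DihedralEight.inverts_of_fixedPointFree
      (mul_self_eq_one (P.ord_of_sq (by ext <;> simp [hv.1, hv.2.1]) ?_))
      (fun b hb => (inferInstance : N.Normal).conj_mem b hb _) ?_ ha
    · intro e; subst e; exact absurd rfl (hv.2.2 0)
    · intro b hb hbv
      have h1 := Subgroup.orderOf_dvd_natCard N hb
      have h2 := Subgroup.orderOf_dvd_natCard _ (mem_centralizer_singleton.2 hbv :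
        b ∈ Subgroup.centralizer ({P.ψ v} : Set G))
      rw [P.card_centralizer_V hv] at h2
      exact orderOf_eq_one_iff.1 (Nat.eq_one_of_dvd_coprimes
        (Nat.Coprime.pow_left 4 (Nat.coprime_two_left.2 hN)) (by simpa using h2) h1)
  obtain ⟨v, w, hv, hw, hne⟩ := exists_V
  rw [Subgroup.eq_bot_iff_forall]
  intro a ha
  have h3 := key _ (v_mul v w hv hw hne).1 a ha
  rw [map_mul, show P.ψ v * P.ψ w * a * (P.ψ v * P.ψ w)⁻¹ = P.ψ v * (P.ψ w * a * (P.ψ w)⁻¹) * (P.ψ v)⁻¹ by group,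
    key w hw a ha, key v hv _ (N.inv_mem ha), inv_inv] at h3
  exact orderOf_eq_one_iff.1 (Nat.eq_one_of_dvd_coprimes (Nat.coprime_two_left.2 hN)
    (orderOf_dvd_of_pow_eq_one (by rw [pow_two]; exact mul_eq_one_iff_eq_inv.2 h3))
    (Subgroup.orderOf_dvd_natCard N ha))

theorem oddCore_eq_bot [Finite G] : Cfsg.oddCore G = ⊥ :=
  P.eq_bot_of_odd _ CfsgLib.Cores.odd_card_oddCore

/-- `N(T_v)` centralises `ψ v`. -/
theorem normalizer_le {v : Model} (hv : IsV v) {n : G}
    (hn : n ∈ Subgroup.normalizer (P.TV v : Set G)) : n ∈ P.TV v := by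
  rw [← P.centralizer_V hv, mem_centralizer_singleton]
  obtain ⟨a, b, ha, hb, hab⟩ := cent_V_comm_ex v hv
  have ha' := (Subgroup.mem_normalizer_iff.1 hn _).1 (P.mem_TV.2 ⟨a, ha, rfl⟩)
  have hb' := (Subgroup.mem_normalizer_iff.1 hn _).1 (P.mem_TV.2 ⟨b, hb, rfl⟩)
  obtain ⟨a', ha2, ea⟩ := P.mem_TV.1 ha'
  obtain ⟨b', hb2, eb⟩ := P.mem_TV.1 hb'
  have e : n * P.ψ v * n⁻¹ = P.ψ (a' * b' * a'⁻¹ * b'⁻¹) := by
    rw [← hab]
    simp only [map_mul, map_inv, ea, eb]
    group
  rcases cent_V_comm v hv a' b' ha2 hb2 with h | h <;> rw [h] at e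
  · exfalso
    rw [map_one, conj_eq_one_iff, ← map_one P.ψ] at e
    have := P.inj e
    subst this
    exact absurd rfl (hv.2.2 0)
  · exact mul_inv_eq_iff_eq_mul.1 e

theorem t_mem_TV (v : Model) : P.t ∈ P.TV v := P.mem_TV.2 ⟨c, c_central v, rfl⟩

/-- Conjugate central elements of `T_v` are equal. -/
theorem eq_of_conj_central [Finite G] {v : Model} (hv : IsV v) {x y : Model}
    (hx : ∀ m, m * v = v * m → m * x = x * m) (hy : ∀ m, m * v = v * m → m * y = y * m)
    {g : G} (e : g * P.ψ x * g⁻¹ = P.ψ y) : x = y := by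
  haveI := Fact.mk Nat.prime_two
  have hcent : ∀ w : Model, (∀ m, m * v = v * m → m * w = w * m) →
      P.ψ w ∈ Subgroup.centralizer ((P.syl hv : Subgroup G) : Set G) := by
    intro w hw
    rw [Subgroup.mem_centralizer_iff]
    intro u hu
    rw [SetLike.mem_coe, P.coe_syl hv] at hu
    obtain ⟨m, hm, rfl⟩ := P.mem_TV.1 hu
    rw [← map_mul, ← map_mul, hw m hm]
  obtain ⟨n, hn, hn'⟩ := (P.syl hv).conj_eq_normalizer_conj_of_mem_centralizer (P.ψ x) g⁻¹
    (hcent x hx) (by rw [inv_inv, e]; exact hcent y hy)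
  rw [inv_inv, e] at hn'
  change n ∈ Subgroup.normalizer ((P.syl hv : Subgroup G) : Set G) at hn
  rw [P.coe_syl hv] at hn
  obtain ⟨m, hm, rfl⟩ := P.mem_TV.1 (P.normalizer_le hv hn)
  rw [← map_inv, ← map_mul, ← map_mul] at hn'
  rw [P.inj hn', mul_assoc, ← hx m hm, inv_mul_cancel_left]

/-- `t` is not conjugate to `t δ`. -/
theorem not_conj_cV [Finite G] {v : Model} (hv : IsV v) (g : G) : g * P.t * g⁻¹ ≠ P.ψ (c * v) := by
  intro e
  have h := P.eq_of_conj_central hv (fun m _ => (c_central m).symm)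
    (fun m hm => by rw [← mul_assoc, ← c_central m, mul_assoc, hm, mul_assoc]) e
  exact absurd (congrArg Prod.snd (mul_eq_left.1 h.symm)) (fun h1 => hv.2.2 0 (by rw [h1]; rfl))

/-- `δ` is not conjugate to `t δ'`. -/
theorem not_conj_V_cV [Finite G] {v w : Model} (hv : IsV v) (hw : IsV w) (g : G) :
    g * P.ψ v * g⁻¹ ≠ P.ψ (c * w) := by
  intro e
  obtain ⟨k, -, -, hk⟩ := V_conj w v hw hv
  have e' : g * P.ψ k * P.ψ w * (g * P.ψ k)⁻¹ = P.ψ (c * w) := by
    rw [← e, ← hk, map_mul, map_mul, map_inv]; group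
  have h := P.eq_of_conj_central hw (fun m hm => hm)
    (fun m hm => by rw [← mul_assoc, ← c_central m, mul_assoc, hm, mul_assoc]) e'
  exact absurd (mul_eq_right.1 h.symm) (fun h1 => absurd (congrArg Prod.fst h1) (by decide +kernel))

/-- In the soluble case `t` is central. -/
theorem centralizer_eq_top [Finite G] (hs : Group.IsSolvable G) :
    Subgroup.centralizer ({P.t} : Set G) = ⊤ := by
  haveI := Fact.mk Nat.prime_two
  haveI := hs
  set Q := Cfsg.pCore 2 G with hQ
  have hQ2 : IsPGroup 2 Q := CfsgLib.Cores.isPGroup_pCore 2 G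
  haveI : Q.Normal := pCore_normal G
  have hCQ : Subgroup.centralizer (Q : Set G) ≤ Q := CfsgLib.SectRank.centralizer_pCore_le_of_solvable P.oddCore_eq_bot
  have hle : ∀ v, IsV v → Q ≤ P.TV v := fun v hv => P.coe_syl hv ▸
    (CfsgLib.Cores.pCore_le_sylow (P.syl hv))
  have hmem : ∀ x : Model, (∀ v, IsV v → ∀ m, m * v = v * m → m * x = x * m) → P.ψ x ∈ Q := by
    intro x hx
    refine hCQ ?_
    rw [Subgroup.mem_centralizer_iff]
    intro y hy
    obtain ⟨v, w, hv, hw, hne⟩ := exists_V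
    obtain ⟨m, hm, rfl⟩ := P.mem_TV.1 (hle v hv hy)
    rw [← map_mul, ← map_mul, hx v hv m hm]
  have htQ : P.t ∈ Q := hmem c fun _ _ m _ => (c_central m).symm
  by_contra hne
  obtain ⟨g, hg⟩ : ∃ g : G, g * P.t * g⁻¹ ≠ P.t := by
    by_contra h
    push Not at h
    exact hne (eq_top_iff.2 fun g _ => mem_centralizer_singleton.2 (mul_inv_eq_iff_eq_mul.1 (h g)))
  have hgQ : g * P.t * g⁻¹ ∈ Q := (inferInstance : Q.Normal).conj_mem _ htQ g
  obtain ⟨v₁, w₁, hv₁, -, -⟩ := exists_V
  obtain ⟨m, -, hm⟩ := P.mem_TV.1 (hle v₁ hv₁ hgQ)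
  have hmc : ∀ v, IsV v → m * v = v * m := by
    intro v hv
    obtain ⟨m', hm', e⟩ := P.mem_TV.1 (hle v hv hgQ)
    rwa [P.inj (e.trans hm.symm)] at hm'
  have hord : orderOf (g * P.t * g⁻¹) = 2 := (orderOf_conj g P.t).trans P.ord_t
  rcases cent_all_V m hmc with rfl | rfl | h | h
  · rw [map_one] at hm; rw [← hm, orderOf_one] at hord; omega
  · exact hg hm.symm
  · exact P.not_conj_V h g hm.symm
  · refine P.not_conj_cV h g ?_
    rw [← mul_assoc, c_sq, one_mul]
    exact hm.symm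

end Setup

end CfsgLib.CoreFree.ZTwoSymFour
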