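import Cfsg.Agent.Lib.CoreFree.ZTwoSymFour.IndexTwo
import Cfsg.Agent.Lib.SectRank.DihedralEight
import Cfsg.Agent.Lib.Involutions.Counting
import Cfsg.Agent.S0497

/-! # The conjugates of `t` when `t` is not central -/

set_option autoImplicit false
set_option linter.unusedSectionVars false
set_option synthInstance.maxSize 2000

open CfsgLib.Involutions

namespace CfsgLib.CoreFree.ZTwoSymFour

theorem perm_six_facts : ∀ g : Equiv.Perm (Fin 6), Equiv.Perm.sign g = 1 →
    g * g * g * g = 1 ∨ g * g * g = 1 ∨ g * g * g * g * g = 1 := by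
  decide +kernel

theorem alt_six_facts (g : alternatingGroup (Fin 6)) : g ^ 4 = 1 ∨ g ^ 3 = 1 ∨ g ^ 5 = 1 := by
  rcases perm_six_facts g g.2 with h | h | h
  · refine Or.inl (Subtype.ext ?_)
    simpa [pow_succ] using h
  · refine Or.inr (Or.inl (Subtype.ext ?_))
    simpa [pow_succ] using h
  · refine Or.inr (Or.inr (Subtype.ext ?_))
    simpa [pow_succ] using h

variable {G : Type*} [Group G] [Finite G] (P : Split G)
variable (hne : Subgroup.centralizer ({P.toSetup.t} : Set G) ≠ ⊤)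
include hne

namespace Split

theorem simple_G0 : IsSimpleGroup P.G0 ∧ (Nat.card P.G0 = 168 ∨ Nat.card P.G0 = 360) ∧
    (∀ u ∈ P.G0, orderOf u = 2 → ∀ y ∈ P.G0, y * u = u * y → orderOf y ≠ 3) := by
  haveI := Fact.mk Nat.prime_two
  have hG : ∀ H : Subgroup P.G0, H.index ≠ 2 := fun H hH => hne (P.centralizer_t_eq_top H hH)
  have hzm : P.ψ z ∈ P.G0 := (P.mem_iff z).2 isV_z.1
  set α : P.G0 := ⟨P.ψ z, hzm⟩ with hα'
  set g : P.G0 := ⟨P.ψ g4, (P.mem_iff g4).2 g4_facts.1⟩ with hg'
  set s : P.G0 := ⟨P.ψ s2, (P.mem_iff s2).2 s2_facts.1⟩ with hs'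
  have hα : orderOf α = 2 := by
    rw [← Subgroup.orderOf_coe]; exact P.toSetup.ord_of_sq (V_sq z isV_z).1 (V_sq z isV_z).2.1
  have hg : orderOf g = 4 := by rw [← Subgroup.orderOf_coe, orderOf_injective P.ψ P.inj]; exact g4_facts.2.2
  have hgα : g * g = α := Subtype.ext (by show P.ψ g4 * P.ψ g4 = P.ψ z; rw [← map_mul, g4_facts.2.1])
  have hs : orderOf s = 2 := by
    rw [← Subgroup.orderOf_coe]; exact P.toSetup.ord_of_sq s2_facts.2.1 s2_facts.2.2.1
  have hinv : s * g * s⁻¹ = g⁻¹ := Subtype.ext (by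
    show P.ψ s2 * P.ψ g4 * (P.ψ s2)⁻¹ = (P.ψ g4)⁻¹
    rw [← map_inv, ← map_inv, ← map_mul, ← map_mul, s2_facts.2.2.2.1])
  have hsC : s * α = α * s := Subtype.ext (by
    show P.ψ s2 * P.ψ z = P.ψ z * P.ψ s2
    rw [← map_mul, ← map_mul, s2_facts.2.2.2.2.1])
  have hsK : s ∉ Subgroup.zpowers g := by
    intro h
    obtain ⟨i, hi⟩ := mem_powers_iff_mem_zpowers.2 h
    have h1 : P.ψ (g4 ^ (i % 4)) = P.ψ s2 := by
      rw [map_pow, ← show ((g ^ i : P.G0) : G) = P.ψ s2 from congrArg Subtype.val hi,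
        ← pow_mod_orderOf g i, hg]
      rfl
    have h2 := P.inj h1
    have h4 : i % 4 = 0 ∨ i % 4 = 1 ∨ i % 4 = 2 ∨ i % 4 = 3 := by omega
    obtain ⟨-, -, -, -, -, n0, n1, n2, n3, -⟩ := s2_facts
    rcases h4 with e | e | e | e <;> rw [e] at h2
    exacts [n0 h2, n1 h2, n2 h2, n3 h2]
  have hcard : Nat.card (Subgroup.centralizer ({α} : Set P.G0)) = 8 := by
    rw [← P.card_P0 isV_z, ← Subgroup.card_map_of_injective (f := P.G0.subtype) P.G0.subtype_injective]
    congr 2
    ext x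
    constructor
    · rintro ⟨y, hy, rfl⟩
      refine ⟨?_, y.2⟩
      rw [← P.toSetup.centralizer_V isV_z]
      exact mem_centralizer_singleton.2 (congrArg Subtype.val (mem_centralizer_singleton.1 hy))
    · rintro ⟨hx, hx0⟩
      rw [← P.toSetup.centralizer_V isV_z] at hx
      exact ⟨⟨x, hx0⟩, mem_centralizer_singleton.2 (Subtype.ext (mem_centralizer_singleton.1 hx)), rfl⟩
  have hP0 : IsPGroup 2 (Subgroup.centralizer ({α} : Set P.G0)) := IsPGroup.of_card (n := 3) hcard
  obtain ⟨S, hS⟩ := hP0.exists_le_sylow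
  have hSle : (S : Subgroup P.G0) = Subgroup.centralizer ({α} : Set P.G0) := by
    refine (Subgroup.eq_of_le_of_card_ge hS ?_).symm
    rw [hcard]
    obtain ⟨n, hn⟩ := S.isPGroup'.exists_card_eq
    rw [hn]
    by_contra hlt
    have h4 : 4 ≤ n := by
      by_contra h4
      have := Nat.pow_le_pow_right (show 0 < 2 by norm_num) (show n ≤ 3 by omega)
      omega
    obtain ⟨j, hj⟩ := (pow_dvd_pow 2 h4).trans (hn ▸ Subgroup.card_subgroup_dvd_card (S : Subgroup P.G0))
    exact P.toSetup.not_dvd_card ⟨j, by rw [P.card_G, hj]; ring⟩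
  have hαc : ∀ x ∈ (S : Subgroup P.G0), x * α = α * x := fun x hx =>
    mem_centralizer_singleton.1 (hSle ▸ hx)
  obtain ⟨hsimp, hc⟩ := CfsgLib.SectRank.DihedralEight.simple_and_card α g s hG hα S hαc hg hgα hs hinv hsK hsC hcard
  obtain ⟨-, B, hBt, -, -⟩ :=
    CfsgLib.SectRank.DihedralEight.exists_setting α g s hG hα S hαc hg hgα hs hinv hsK hsC hcard
  refine ⟨hsimp, hc, fun u hu hu2 y hy hyu hy3 => ?_⟩
  obtain ⟨a, ha⟩ := isConj_iff.1 (B.hconj ⟨u, hu⟩ α (by rw [← Subgroup.orderOf_coe]; exact hu2) hα)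
  have hm : a * ⟨y, hy⟩ * a⁻¹ ∈ Subgroup.centralizer ({α} : Set P.G0) := by
    rw [mem_centralizer_singleton, ← ha]
    have e : (⟨y, hy⟩ : P.G0) * ⟨u, hu⟩ = ⟨u, hu⟩ * ⟨y, hy⟩ := Subtype.ext hyu
    calc a * ⟨y, hy⟩ * a⁻¹ * (a * ⟨u, hu⟩ * a⁻¹) = a * (⟨y, hy⟩ * ⟨u, hu⟩) * a⁻¹ := by group
      _ = _ := by rw [e]; group
  have hd := Subgroup.orderOf_dvd_natCard _ hm
  rw [hcard, orderOf_conj, ← Subgroup.orderOf_coe] at hd
  change orderOf y ∣ 8 at hd
  rw [hy3] at hd
  norm_num at hd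

/-- The conjugates of `t`. -/
def IsC (u : G) : Prop := IsConj P.toSetup.t u

omit hne in
theorem isC_conj {u : G} (h : P.IsC u) (g : G) : P.IsC (g * u * g⁻¹) :=
  h.trans (isConj_iff.2 ⟨g, rfl⟩)

omit hne in
theorem isC_not_mem {u : G} (h : P.IsC u) : u ∉ P.G0 := by
  haveI := Subgroup.normal_of_index_eq_two P.index_two
  obtain ⟨g, rfl⟩ := isConj_iff.1 h
  intro hm
  have := (inferInstance : P.G0.Normal).conj_mem _ hm g⁻¹
  exact P.t_not_mem (by simpa [mul_assoc] using this)

omit hne in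
theorem isC_order {u : G} (h : P.IsC u) : orderOf u = 2 :=
  (orderOf_eq_of_isConj h).symm.trans P.toSetup.ord_t

omit hne in
theorem isC_comm {u : G} (h : P.IsC u) (hut : u * P.toSetup.t = P.toSetup.t * u) (hu : u ≠ P.toSetup.t) :
    ∃ m, (IsSw m ∧ m.1 = Multiplicative.ofAdd 1) ∧ P.ψ m = u := by
  obtain ⟨m, hm⟩ := P.range u hut
  have hord := P.isC_order h
  rw [← hm, orderOf_injective P.ψ P.inj] at hord
  obtain ⟨g, hg⟩ := isConj_iff.1 h
  rcases involution_cases m (mul_self_eq_one hord) with e | e | e | e | e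
  · exact absurd e (ne_one hord)
  · exact absurd (by rw [← hm, e]; rfl) hu
  · exact absurd (hg.trans hm.symm) (P.toSetup.not_conj_V e g)
  · refine absurd ?_ (P.toSetup.not_conj_cV e g)
    rw [hg, ← hm, ← mul_assoc, c_sq, one_mul]
  · refine ⟨m, ⟨e, (fst_two m.1).resolve_left fun h1 => P.isC_not_mem h ?_⟩, hm⟩
    rw [← hm]; exact (P.mem_iff m).2 h1

omit hne in
/-- The stabiliser of `u` in the centralizer of `t`. -/
def stab (u : G) : Subgroup Model := (Subgroup.centralizer ({u} : Set G)).comap P.ψ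

omit hne in
theorem mem_stab {u : G} {m : Model} : m ∈ P.stab u ↔ P.ψ m * u = u * P.ψ m :=
  mem_centralizer_singleton

omit hne in
theorem card_stab {u : G} (hnc : u * P.toSetup.t ≠ P.toSetup.t * u) :
    Nat.card (P.stab u) ∣ 12 ∧ Nat.card (P.stab u) ≤ 6 := by
  classical
  set W := P.stab u with hW
  have hV : ∀ v, IsV v → v ∉ W := by
    intro v hv hm
    obtain ⟨m, -, rfl⟩ := P.vcent v hv u (P.mem_stab.1 hm).symm
    exact hnc (P.toSetup.comm_t m)
  haveI : (four).Normal := ⟨fun m hm g => by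
    rcases hm with rfl | h
    · exact Or.inl (by group)
    · exact Or.inr (V_conj' m g h)⟩
  have hidx : (four).index = 12 := by
    have h1 := (four).card_mul_index
    have h4 : Nat.card four = 4 := by
      rw [Nat.card_eq_fintype_card, Fintype.card_subtype]
      refine Eq.trans ?_ card_VI
      congr 1
      ext m
      simp only [Finset.mem_filter, Finset.mem_univ, true_and]
      rfl
    rw [h4, Nat.card_eq_fintype_card, card_model] at h1
    omega
  let f : W →* Model ⧸ four := (QuotientGroup.mk' four).comp W.subtype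
  have hinj : Function.Injective f := by
    rw [injective_iff_map_eq_one]
    intro x hx
    rcases (QuotientGroup.eq_one_iff (x : Model)).1 hx with h | h
    · exact Subtype.ext h
    · exact absurd x.2 (hV _ h)
  have hdvd : Nat.card W ∣ 12 := by
    rw [← hidx, Subgroup.index_eq_card, Nat.card_congr (MonoidHom.ofInjective hinj).toEquiv]
    exact Subgroup.card_subgroup_dvd_card _
  refine ⟨hdvd, ?_⟩
  have hne12 : Nat.card W ≠ 12 := by
    intro h12
    have hsurj : Function.Surjective f := (hinj.bijective_of_nat_card_le (by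
      rw [← Subgroup.index_eq_card, hidx, h12])).2
    obtain ⟨m, hm⟩ := hsurj (c : Model)
    obtain ⟨n, hn⟩ := hsurj (y3 : Model)
    have hm' := QuotientGroup.eq.1 hm
    have hn' := QuotientGroup.eq.1 hn
    obtain ⟨v, hv, hve⟩ : ∃ v, (v = 1 ∨ IsV v) ∧ (m : Model) = c * v :=
      ⟨c⁻¹ * (m : Model), by
        have := (four).inv_mem hm'
        rwa [mul_inv_rev, inv_inv] at this, by rw [mul_inv_cancel_left]⟩
    obtain ⟨w, hw, hwe⟩ : ∃ w, (w = 1 ∨ IsV w) ∧ (n : Model) = y3 * w :=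
      ⟨y3⁻¹ * (n : Model), by
        have := (four).inv_mem hn'
        rwa [mul_inv_rev, inv_inv] at this, by rw [mul_inv_cancel_left]⟩
    rcases hv with rfl | hv
    · rw [mul_one] at hve
      exact hnc (P.mem_stab.1 (hve ▸ m.2 : c ∈ W)).symm
    · refine hV _ (comm_lift v w hv hw) ?_
      rw [← hve, ← hwe]
      exact mul_mem (mul_mem (mul_mem m.2 n.2) (inv_mem m.2)) (inv_mem n.2)
  have hpos : 0 < Nat.card W := Nat.card_pos
  have hle := Nat.le_of_dvd (by norm_num) hdvd
  interval_cases h : Nat.card W <;> omega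

omit hne in
/-- The orbit of `u` under the centralizer of `t`. -/
def orb (u : G) : Set G := Set.range fun m : Model => P.ψ m * u * (P.ψ m)⁻¹

omit hne in
theorem card_orb (u : G) : (P.orb u).ncard * Nat.card (P.stab u) = 48 := by
  classical
  have e : Nat.card (Model ⧸ P.stab u) = (P.orb u).ncard := by
    rw [← Nat.card_coe_set_eq]
    refine Nat.card_congr (Equiv.ofBijective
      (Quotient.lift (fun m : Model => (⟨P.ψ m * u * (P.ψ m)⁻¹, m, rfl⟩ : P.orb u)) ?_) ⟨?_, ?_⟩)
    · intro a b hab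
      have h := P.mem_stab.1 (QuotientGroup.leftRel_apply.1 hab)
      apply Subtype.ext
      show P.ψ a * u * (P.ψ a)⁻¹ = P.ψ b * u * (P.ψ b)⁻¹
      rw [map_mul, map_inv] at h
      calc P.ψ a * u * (P.ψ a)⁻¹ = P.ψ a * (u * ((P.ψ a)⁻¹ * P.ψ b)) * (P.ψ b)⁻¹ := by group
        _ = P.ψ b * u * (P.ψ b)⁻¹ := by rw [← h]; group
    · rintro ⟨a⟩ ⟨b⟩ hab
      refine Quotient.sound (QuotientGroup.leftRel_apply.2 (P.mem_stab.2 ?_))
      have h : P.ψ a * u * (P.ψ a)⁻¹ = P.ψ b * u * (P.ψ b)⁻¹ := congrArg Subtype.val hab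
      rw [map_mul, map_inv]
      calc (P.ψ a)⁻¹ * P.ψ b * u = (P.ψ a)⁻¹ * (P.ψ b * u * (P.ψ b)⁻¹) * P.ψ b := by group
        _ = u * ((P.ψ a)⁻¹ * P.ψ b) := by rw [← h]; group
    · rintro ⟨_, m, rfl⟩
      exact ⟨Quotient.mk _ m, rfl⟩
  rw [← e, ← (P.stab u).index_eq_card, Subgroup.index_mul_card, Nat.card_eq_fintype_card, card_model]

omit hne in
/-- The conjugates not commuting with `t`. -/
def far : Set G := {u | P.IsC u ∧ u * P.toSetup.t ≠ P.toSetup.t * u}

omit hne in
theorem orb_subset {u : G} (h : u ∈ P.far) : P.orb u ⊆ P.far := by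
  rintro _ ⟨m, rfl⟩
  refine ⟨P.isC_conj h.1 _, fun e => h.2 ?_⟩
  have hc := P.toSetup.comm_t m
  set t := P.toSetup.t
  have ht : t = P.ψ m * t * (P.ψ m)⁻¹ := by rw [hc, mul_inv_cancel_right]
  calc u * t = (P.ψ m)⁻¹ * (P.ψ m * u * (P.ψ m)⁻¹ * (P.ψ m * t * (P.ψ m)⁻¹)) * P.ψ m := by group
    _ = (P.ψ m)⁻¹ * (P.ψ m * u * (P.ψ m)⁻¹ * t) * P.ψ m := by rw [← ht]
    _ = (P.ψ m)⁻¹ * (P.ψ m * t * (P.ψ m)⁻¹ * (P.ψ m * u * (P.ψ m)⁻¹)) * P.ψ m := by rw [← ht, e]
    _ = t * u := by group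

omit hne in
theorem eight_le_orb {u : G} (h : u ∈ P.far) : 8 ≤ (P.orb u).ncard := by
  have h1 := P.card_orb u
  have h2 := (P.card_stab h.2).2
  nlinarith

/-- Counting: 15 conjugates, six commuting with `t`, eight in one orbit with stabiliser of order 6. -/
theorem counts : Nat.card P.G0 = 360 ∧ (∀ m, IsSw m → m.1 = Multiplicative.ofAdd 1 → P.IsC (P.ψ m)) ∧
    P.far.Nonempty ∧ ∀ u ∈ P.far, Nat.card (P.stab u) = 6 := by
  classical
  obtain ⟨hsimp, hcard, -⟩ := P.simple_G0 hne
  set t := P.toSetup.t with ht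
  set C : Set G := {u | P.IsC u} with hC
  have hCcard : C.ncard * 48 = 2 * Nat.card P.G0 := by
    rw [← P.card_G, ← P.toSetup.card_centralizer_t, ← Nat.card_coe_set_eq]
    exact CfsgLib.Involutions.card_isConj_mul_card_centralizer t
  set near : Set G := P.ψ '' {m | IsSw m ∧ m.1 = Multiplicative.ofAdd 1} with hnear
  have hnear6 : near.ncard = 6 := by
    rw [hnear, Set.ncard_image_of_injective _ P.inj, ← Nat.card_coe_set_eq, Nat.card_eq_fintype_card,
      Fintype.card_subtype]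
    refine Eq.trans ?_ card_swc
    congr 1
  have htC : t ∈ C := IsConj.refl _
  -- a normal abelian closure is impossible
  have hnall : P.far.Nonempty := by
    by_contra hemp
    rw [Set.not_nonempty_iff_eq_empty] at hemp
    have hall : ∀ a b : G, P.IsC a → P.IsC b → a * b = b * a := by
      intro a b ha hb
      obtain ⟨g, rfl⟩ := isConj_iff.1 ha
      have hb' : P.IsC (g⁻¹ * b * g) := by simpa [inv_inv] using P.isC_conj hb g⁻¹
      have h1 : g⁻¹ * b * g * t = t * (g⁻¹ * b * g) := by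
        by_contra hh
        have : (g⁻¹ * b * g) ∈ P.far := ⟨hb', hh⟩
        rw [hemp] at this; exact this
      calc g * t * g⁻¹ * b = g * (t * (g⁻¹ * b * g)) * g⁻¹ := by group
        _ = g * (g⁻¹ * b * g * t) * g⁻¹ := by rw [h1]
        _ = b * (g * t * g⁻¹) := by group
    set A := Subgroup.closure C with hA
    haveI hAn : A.Normal := by
      refine ⟨fun x hx g => ?_⟩
      have : A.map (MulAut.conj g).toMonoidHom ≤ A := by
        rw [hA, MonoidHom.map_closure, Subgroup.closure_le]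
        rintro _ ⟨y, hy, rfl⟩
        exact Subgroup.subset_closure (P.isC_conj hy g)
      exact this ⟨x, hx, rfl⟩
    have hAcomm : ∀ x ∈ A, ∀ y ∈ A, x * y = y * x := by
      intro x hx y hy
      exact (Subgroup.closure_le (k := C) (Subgroup.centralizer (A : Set G))).2 (fun a ha =>
        Subgroup.mem_centralizer_iff.2 fun b hb => ((Subgroup.closure_le (k := C) (Subgroup.centralizer ({a} : Set G))).2
          (fun b' hb' => mem_centralizer_singleton.2 (hall b' a hb' ha)) hb |> mem_centralizer_singleton.1))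
        hx |> fun h => (Subgroup.mem_centralizer_iff.1 h y hy).symm
    haveI := hsimp
    rcases (inferInstance : (A.subgroupOf P.G0).Normal).eq_bot_or_eq_top with hb | hb
    · apply hne
      rw [eq_top_iff]
      intro g _
      have hm : g * t * g⁻¹ * t ∈ A :=
        mul_mem (Subgroup.subset_closure (P.isC_conj htC g)) (Subgroup.subset_closure htC)
      have hm0 : g * t * g⁻¹ * t ∈ P.G0 := by
        rw [Subgroup.mul_mem_iff_of_index_two P.index_two]
        exact iff_of_false (P.isC_not_mem (P.isC_conj htC g)) P.t_not_mem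
      have h1 : (⟨_, hm0⟩ : P.G0) = 1 := by
        rw [← Subgroup.mem_bot, ← hb]; exact hm
      have h2 : g * t * g⁻¹ * t = 1 := congrArg Subtype.val h1
      rw [mem_centralizer_singleton]
      refine mul_inv_eq_iff_eq_mul.1 ?_
      rw [mul_eq_one_iff_eq_inv.1 h2]
      exact inv_eq_self P.toSetup.ord_t
    · have hle : P.G0 ≤ A := Subgroup.subgroupOf_eq_top.1 hb
      have h := hAcomm _ (hle ((P.mem_iff s2).2 s2_facts.1)) _ (hle ((P.mem_iff g4).2 g4_facts.1))
      rw [← map_mul, ← map_mul] at h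
      exact s2_facts.2.2.2.2.2.2.2.2.2 (P.inj h)
  have hsplit : C ⊆ insert t (near ∪ P.far) := by
    intro u hu
    by_cases h : u * t = t * u
    · by_cases he : u = t
      · exact Or.inl he
      · obtain ⟨m, hm, e⟩ := P.isC_comm hu h he
        exact Or.inr (Or.inl ⟨m, hm, e⟩)
    · exact Or.inr (Or.inr ⟨hu, h⟩)
  -- six neighbours or none
  have hnc : near ⊆ C ∨ ∀ u ∈ near, u ∉ C := by
    by_cases hh : ∃ u ∈ near, u ∈ C
    · left
      obtain ⟨_, ⟨m, hm, rfl⟩, hu⟩ := hh
      rintro _ ⟨n, hn, rfl⟩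
      obtain ⟨k, hk⟩ := sw_conj m n hm.1 hn.1 (hm.2.trans hn.2.symm)
      rw [← hk, map_mul, map_mul, map_inv]
      exact P.isC_conj hu _
    · push Not at hh; exact Or.inr hh
  have hfarC : P.far ⊆ C := fun u hu => hu.1
  have hdtf : t ∉ P.far := fun h => h.2 rfl
  have hdnf : Disjoint near P.far := by
    rw [Set.disjoint_left]
    rintro _ ⟨m, -, rfl⟩ h
    exact h.2 (P.toSetup.comm_t m)
  have htn : t ∉ near := by
    rintro ⟨m, hm, e⟩
    exact (sw_ne m hm.1).2.2.2 (P.inj e)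
  obtain ⟨u, hu⟩ := hnall
  have h8 := P.eight_le_orb hu
  have horb := Set.ncard_le_ncard (P.orb_subset hu) (Set.toFinite _)
  rcases hnc with hn | hn
  · have e : C = insert t (near ∪ P.far) := by
      refine Set.Subset.antisymm hsplit ?_
      rintro x (rfl | hx | hx)
      exacts [htC, hn hx, hfarC hx]
    rw [e, Set.ncard_insert_of_notMem (fun h => h.elim htn hdtf) (Set.toFinite _),
      Set.ncard_union_eq hdnf (Set.toFinite _) (Set.toFinite _), hnear6] at hCcard
    have h360 : Nat.card P.G0 = 360 := by omega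
    refine ⟨h360, fun m h1 h2 => hn ⟨m, ⟨h1, h2⟩, rfl⟩, ⟨u, hu⟩, fun w hw => ?_⟩
    have h1 := P.card_orb w
    have h2 := P.eight_le_orb hw
    have h3 := Set.ncard_le_ncard (P.orb_subset hw) (Set.toFinite _)
    rw [show (P.orb w).ncard = 8 by omega] at h1
    omega
  · exfalso
    have e : C = insert t P.far := by
      refine Set.Subset.antisymm ?_ ?_
      · intro x hx
        rcases hsplit hx with h | h | h
        exacts [Or.inl h, absurd hx (hn x h), Or.inr h]
      · rintro x (rfl | hx)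
        exacts [htC, hfarC hx]
    rw [e, Set.ncard_insert_of_notMem hdtf (Set.toFinite _)] at hCcard
    have hf : P.far.ncard = 14 := by omega
    obtain ⟨v, hv, hvo⟩ : ∃ v ∈ P.far, v ∉ P.orb u := by
      by_contra hall
      push Not at hall
      have h14 : (P.orb u).ncard = 14 := by
        rw [← hf, Set.Subset.antisymm (P.orb_subset hu) hall]
      have := P.card_orb u
      rw [h14] at this
      omega
    have hd : Disjoint (P.orb u) (P.orb v) := by
      rw [Set.disjoint_left]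
      rintro _ ⟨a, rfl⟩ ⟨b, hb⟩
      refine hvo ⟨b⁻¹ * a, ?_⟩
      change P.ψ b * v * (P.ψ b)⁻¹ = P.ψ a * u * (P.ψ a)⁻¹ at hb
      show P.ψ (b⁻¹ * a) * u * (P.ψ (b⁻¹ * a))⁻¹ = v
      rw [map_mul, map_inv, show (P.ψ b)⁻¹ * P.ψ a * u * ((P.ψ b)⁻¹ * P.ψ a)⁻¹ =
        (P.ψ b)⁻¹ * (P.ψ a * u * (P.ψ a)⁻¹) * P.ψ b by group, ← hb]
      group
    have h1 := Set.ncard_le_ncard (Set.union_subset (P.orb_subset hu) (P.orb_subset hv)) (Set.toFinite _)
    rw [Set.ncard_union_eq hd (Set.toFinite _) (Set.toFinite _)] at h1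
    have := P.eight_le_orb hv
    omega

/-- A conjugate of `t` not commuting with `t` has product with it of order dividing 3. -/
theorem cube_eq_one {u : G} (hu : u ∈ P.far) : (P.toSetup.t * u) ^ 3 = 1 := by
  haveI := Fact.mk Nat.prime_three
  obtain ⟨hsimp, -, hy3⟩ := P.simple_G0 hne
  obtain ⟨h360, -, -, h6⟩ := P.counts hne
  haveI := hsimp
  obtain ⟨φ⟩ := Cfsg.Agent.S0497.result h360
  obtain ⟨⟨m, hmW⟩, hm⟩ := exists_prime_orderOf_dvd_card' (G := P.stab u) 3 (by rw [h6 u hu]; norm_num)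
  rw [← Subgroup.orderOf_coe] at hm
  change orderOf m = 3 at hm
  have hm3 : m * m * m = 1 := by
    have := pow_orderOf_eq_one m
    rwa [hm, pow_succ, pow_two] at this
  have hm1 := (order_three_swc m hm3 (fun e => by rw [e, orderOf_one] at hm; omega)).1
  set t := P.toSetup.t
  set y := P.ψ m with hy
  have hyG : y ∈ P.G0 := (P.mem_iff m).2 hm1
  have hyo : orderOf y = 3 := by rw [hy, orderOf_injective P.ψ P.inj, hm]
  have hrG : t * u ∈ P.G0 := by
    rw [Subgroup.mul_mem_iff_of_index_two P.index_two]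
    exact iff_of_false P.t_not_mem (P.isC_not_mem hu.1)
  have hyr : y * (t * u) = t * u * y := by
    rw [← mul_assoc, P.toSetup.comm_t m, mul_assoc, P.mem_stab.1 hmW, mul_assoc]
  have hodd : Odd (orderOf (t * u)) := by
    refine Nat.not_even_iff_odd.1 fun hev => ?_
    exact hy3 _ (pow_mem hrG _) (orderOf_half hev (orderOf_pos _).ne') y hyG
      ((show Commute y (t * u) from hyr).pow_right _).eq hyo
  set r : P.G0 := ⟨t * u, hrG⟩ with hr
  set Y : P.G0 := ⟨y, hyG⟩ with hY
  have horders : ∀ x : P.G0, x ^ 4 = 1 ∨ x ^ 3 = 1 ∨ x ^ 5 = 1 := by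
    intro x
    rcases alt_six_facts (φ x) with e | e | e
    · exact Or.inl (φ.injective (by rw [map_pow, map_one]; exact e))
    · exact Or.inr (Or.inl (φ.injective (by rw [map_pow, map_one]; exact e)))
    · exact Or.inr (Or.inr (φ.injective (by rw [map_pow, map_one]; exact e)))
  have hrodd : Odd (orderOf r) := by rw [← Subgroup.orderOf_coe]; exact hodd
  have hne1 : r ≠ 1 := by
    intro h1
    have h2 : t * u = 1 := congrArg Subtype.val h1
    refine hu.2 ?_
    rw [← inv_eq_of_mul_eq_one_right h2, inv_eq_self P.toSetup.ord_t]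
  rcases horders r with e | e | e
  · exact absurd (orderOf_eq_one_iff.1 (Nat.eq_one_of_dvd_coprimes
      ((Nat.coprime_two_right.2 hrodd).pow_right 2) dvd_rfl (orderOf_dvd_of_pow_eq_one e))) hne1
  · exact congrArg Subtype.val e
  exfalso
  have hY3 : Y ^ 3 = 1 := Subtype.ext (by
    show y ^ 3 = 1
    have := pow_orderOf_eq_one y
    rwa [hyo] at this)
  have hc : Commute r Y := Subtype.ext hyr.symm
  have hYne : Y ≠ 1 := fun e' => by
    have : y = 1 := congrArg Subtype.val e'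
    rw [this, orderOf_one] at hyo; omega
  rcases horders (r * Y) with e' | e' | e'
  · rw [hc.mul_pow, show Y ^ 4 = Y by rw [pow_succ, hY3, one_mul]] at e'
    have h5 : (r ^ 4 * Y) ^ 5 = 1 := by rw [e', one_pow]
    rw [(hc.pow_left 4).mul_pow, ← pow_mul, show 4 * 5 = 5 * 4 from rfl, pow_mul, e, one_pow, one_mul,
      show 5 = 3 + 2 from rfl, pow_add, hY3, one_mul] at h5
    apply hYne
    rw [pow_succ, h5, one_mul] at hY3
    exact hY3
  · rw [hc.mul_pow, hY3, mul_one] at e'
    apply hne1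
    have : r ^ 6 = 1 := by rw [show 6 = 3 * 2 from rfl, pow_mul, e', one_pow]
    rwa [show 6 = 5 + 1 from rfl, pow_succ, e, one_mul] at this
  · rw [hc.mul_pow, e, one_mul, show 5 = 3 + 2 from rfl, pow_add, hY3, one_mul] at e'
    apply hYne
    rw [pow_succ, e', one_mul] at hY3
    exact hY3

end Split

end CfsgLib.CoreFree.ZTwoSymFour
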