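import Cfsg.Agent.Lib.CoreFree.ZTwoSymFour.Split
import Cfsg.Agent.Lib.SectRank.BSW.Main

/-! # The index 2 subgroup has no subgroup of index 2 -/

set_option autoImplicit false
set_option linter.unusedSectionVars false

open CfsgLib.Involutions

namespace CfsgLib.CoreFree.ZTwoSymFour

/-- Two subgroups of index 2 agreeing on a Sylow 2-subgroup are equal. -/
theorem eq_of_index_two {X : Type*} [Group X] [Finite X] (H H' : Subgroup X) (h1 : H.index = 2)
    (h2 : H'.index = 2) (P : Sylow 2 X) (he : ∀ x ∈ (P : Subgroup X), x ∈ H ↔ x ∈ H') : H = H' := by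
  haveI := Fact.mk Nat.prime_two
  haveI := Subgroup.normal_of_index_eq_two h1
  haveI := Subgroup.normal_of_index_eq_two h2
  have hodd : ∀ (K : Subgroup X), K.index = 2 → ∀ (x : X) (m : ℕ), Odd m → (x ∈ K ↔ x ^ m ∈ K) := by
    intro K hK x m hm
    obtain ⟨j, rfl⟩ := hm
    rw [pow_succ, Subgroup.mul_mem_iff_of_index_two hK, pow_mul]
    have : (x ^ 2) ^ j ∈ K := K.pow_mem (Subgroup.sq_mem_of_index_two hK x) j
    tauto
  ext x
  obtain ⟨k, m, hm, hkm⟩ := Nat.exists_eq_two_pow_mul_odd (orderOf_pos x).ne'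
  rw [hodd H h1 x m hm, hodd H' h2 x m hm]
  have hp : IsPGroup 2 (Subgroup.zpowers (x ^ m)) := IsPGroup.of_card (n := k) (by
    rw [Nat.card_zpowers, orderOf_pow_of_dvd hm.pos.ne' (hkm ▸ dvd_mul_left _ _), hkm,
      Nat.mul_div_cancel _ hm.pos])
  obtain ⟨Q, hQ⟩ := hp.exists_le_sylow
  obtain ⟨a, ha⟩ := MulAction.exists_smul_eq X Q P
  have hmem : a * x ^ m * a⁻¹ ∈ (P : Subgroup X) := by
    rw [← ha]
    exact ⟨_, hQ (Subgroup.mem_zpowers _), rfl⟩
  have hiff : ∀ K : Subgroup X, K.Normal → (x ^ m ∈ K ↔ a * x ^ m * a⁻¹ ∈ K) := by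
    intro K hK
    refine ⟨fun h => hK.conj_mem _ h a, fun h => ?_⟩
    have := hK.conj_mem _ h a⁻¹
    simpa [mul_assoc] using this
  rw [hiff H inferInstance, hiff H' inferInstance]
  exact he _ hmem

variable {G : Type*} [Group G] [Finite G] (P : Split G)

namespace Split

theorem t_not_mem : P.toSetup.t ∉ P.G0 := fun h => ofAdd_ne ((P.mem_iff c).1 h)

theorem card_G : Nat.card G = 2 * Nat.card P.G0 := by
  rw [← P.G0.card_mul_index, P.index_two, mul_comm]

variable (H : Subgroup P.G0) (hH : H.index = 2)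
include hH

/-- A subgroup of index 2, inside `G`. -/
def sub : Subgroup G := H.map P.G0.subtype

omit hH in
theorem sub_le : P.sub H ≤ P.G0 := Subgroup.map_subtype_le _

theorem card_sub : 4 * Nat.card (P.sub H) = Nat.card G := by
  rw [sub, Subgroup.card_map_of_injective P.G0.subtype_injective, P.card_G, ← H.card_mul_index, hH]
  ring

omit hH in
theorem mem_sub {g : G} (hg : g ∈ P.G0) : g ∈ P.sub H ↔ (⟨g, hg⟩ : P.G0) ∈ H := by
  constructor
  · rintro ⟨x, hx, rfl⟩; exact hx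
  · intro h; exact ⟨_, h, rfl⟩

theorem even_mem {m : Model} (h1 : m.1 = 1) (h2 : Equiv.Perm.sign m.2 = 1) :
    P.ψ m ∈ P.sub H := by
  obtain ⟨n, hn, rfl⟩ := even_square m h1 h2
  have hg := (P.mem_iff n).2 hn
  refine (P.mem_sub H ((P.mem_iff _).2 h1)).2 ?_
  have e : (⟨P.ψ (n * n), (P.mem_iff _).2 h1⟩ : P.G0) = ⟨P.ψ n, hg⟩ ^ 2 :=
    Subtype.ext (show P.ψ (n * n) = P.ψ n ^ 2 by rw [map_mul, pow_two])
  rw [e]
  exact Subgroup.sq_mem_of_index_two hH _

theorem not_eight_dvd : ¬ 8 ∣ Nat.card (P.sub H) := by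
  rintro ⟨k, hk⟩
  exact P.toSetup.not_dvd_card ⟨k, by rw [← P.card_sub H hH, hk]; ring⟩

omit hH in
theorem card_P0 {v : Model} (hv : IsV v) :
    Nat.card (P.toSetup.TV v ⊓ P.G0 : Subgroup G) = 8 := by
  classical
  have e : (P.toSetup.TV v ⊓ P.G0 : Subgroup G) =
      ((Subgroup.centralizer ({v} : Set Model)) ⊓ (MonoidHom.fst _ _).ker).map P.ψ := by
    ext g
    constructor
    · rintro ⟨hg, hg0⟩
      obtain ⟨m, hm, rfl⟩ := P.toSetup.mem_TV.1 hg
      exact ⟨m, ⟨mem_centralizer_singleton.2 hm, (P.mem_iff m).1 hg0⟩, rfl⟩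
    · rintro ⟨m, ⟨hm, hm1⟩, rfl⟩
      exact ⟨P.toSetup.mem_TV.2 ⟨m, mem_centralizer_singleton.1 hm, rfl⟩, (P.mem_iff m).2 hm1⟩
  rw [e, Subgroup.card_map_of_injective P.inj, Nat.card_eq_fintype_card, Fintype.card_subtype,
    ← card_cent_fst v hv]
  congr 1
  ext m
  simp only [Finset.mem_filter, Finset.mem_univ, true_and, Subgroup.mem_inf, MonoidHom.mem_ker,
    mem_centralizer_singleton]
  rfl

theorem s2_not_mem : P.ψ s2 ∉ P.sub H := by
  intro h
  refine P.not_eight_dvd H hH (P.card_P0 isV_z ▸ Subgroup.card_dvd_of_le ?_)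
  rintro g ⟨hg, hg0⟩
  obtain ⟨m, -, rfl⟩ := P.toSetup.mem_TV.1 hg
  have hm1 := (P.mem_iff m).1 hg0
  by_cases hs : Equiv.Perm.sign m.2 = 1
  · exact P.even_mem H hH hm1 hs
  · have h' := P.even_mem H hH (odd_mul_s2 m hm1 hs).1 (odd_mul_s2 m hm1 hs).2
    rw [map_mul] at h'
    exact (Subgroup.mul_mem_cancel_right _ h).1 h'

theorem mem_sub_iff {m : Model} : P.ψ m ∈ P.sub H ↔ m.1 = 1 ∧ Equiv.Perm.sign m.2 = 1 := by
  refine ⟨fun h => ?_, fun h => P.even_mem H hH h.1 h.2⟩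
  have hm1 := (P.mem_iff m).1 (P.sub_le H h)
  refine ⟨hm1, ?_⟩
  by_contra hs
  have h' := P.even_mem H hH (odd_mul_s2 m hm1 hs).1 (odd_mul_s2 m hm1 hs).2
  rw [map_mul] at h'
  exact P.s2_not_mem H hH ((Subgroup.mul_mem_cancel_left _ h).1 h')

theorem cent_sub {v : Model} (hv : IsV v) {g : G} (hg : g ∈ P.sub H) (h : g * P.ψ v = P.ψ v * g) :
    ∃ m, (m = 1 ∨ IsV m) ∧ P.ψ m = g := by
  obtain ⟨m, hm, rfl⟩ := P.vcent v hv g h
  obtain ⟨h1, h2⟩ := (P.mem_sub_iff H hH).1 hg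
  exact ⟨m, cent_even v m hv h1 h2 hm, rfl⟩

/-- The four-group. -/
def four : Subgroup Model where
  carrier := {m | m = 1 ∨ IsV m}
  one_mem' := Or.inl rfl
  mul_mem' := fun ha hb => VI_mul _ _ ha hb
  inv_mem' := fun {a} ha => by
    rcases ha with rfl | h
    · exact Or.inl inv_one
    · refine Or.inr ?_
      rwa [inv_eq_of_mul_eq_one_right (V_sq a h).1]

omit hH in
/-- The four-group, inside `G`. -/
def Q : Subgroup G := four.map P.ψ

omit hH in
theorem mem_Q {g : G} : g ∈ P.Q ↔ ∃ m, (m = 1 ∨ IsV m) ∧ P.ψ m = g := Subgroup.mem_map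

omit hH in
theorem card_Q : Nat.card P.Q = 4 := by
  classical
  rw [Q, Subgroup.card_map_of_injective P.inj, Nat.card_eq_fintype_card, Fintype.card_subtype]
  refine Eq.trans ?_ card_VI
  congr 1
  ext m
  simp only [Finset.mem_filter, Finset.mem_univ, true_and]
  rfl

theorem Q_le : P.Q ≤ P.sub H := by
  intro g hg
  obtain ⟨m, hm, rfl⟩ := P.mem_Q.1 hg
  refine (P.mem_sub_iff H hH).2 ?_
  rcases hm with rfl | h
  · exact one_even
  · exact ⟨h.1, V_sign m h⟩

/-- Every involution is conjugate to `ψ z`. -/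
theorem conj_z {u : G} (hu : u ∈ P.sub H) (hu2 : orderOf u = 2) :
    ∃ a ∈ P.sub H, a * u * a⁻¹ = P.ψ z := by
  haveI := Fact.mk Nat.prime_two
  set X := P.sub H
  have hc4 : Nat.card (P.Q.subgroupOf X) = 4 :=
    (Nat.card_congr (Subgroup.subgroupOfEquivOfLe (P.Q_le H hH)).toEquiv).trans P.card_Q
  obtain ⟨S, hS⟩ := (IsPGroup.of_card (p := 2) (n := 2) hc4 : IsPGroup 2 (P.Q.subgroupOf X)).exists_le_sylow
  have hSQ : (S : Subgroup X) = P.Q.subgroupOf X := by
    refine (Subgroup.eq_of_le_of_card_ge hS ?_).symm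
    rw [hc4]
    obtain ⟨n, hn⟩ := S.isPGroup'.exists_card_eq
    rw [hn]
    by_contra hlt
    have h3 : 3 ≤ n := by
      by_contra h3
      have := Nat.pow_le_pow_right (show 0 < 2 by norm_num) (show n ≤ 2 by omega)
      omega
    exact P.not_eight_dvd H hH ((pow_dvd_pow 2 h3).trans (hn ▸ Subgroup.card_subgroup_dvd_card _))
  have hu' : IsPGroup 2 (Subgroup.zpowers (⟨u, hu⟩ : X)) := IsPGroup.of_card (n := 1) (by
    rw [Nat.card_zpowers, ← Subgroup.orderOf_coe, pow_one]; exact hu2)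
  obtain ⟨R, hR⟩ := hu'.exists_le_sylow
  obtain ⟨a, ha⟩ := MulAction.exists_smul_eq X R S
  have hmem : a * ⟨u, hu⟩ * a⁻¹ ∈ (S : Subgroup X) := by
    rw [← ha]; exact ⟨_, hR (Subgroup.mem_zpowers _), rfl⟩
  rw [hSQ, Subgroup.mem_subgroupOf] at hmem
  obtain ⟨m, hm, e⟩ := P.mem_Q.1 hmem
  have e' : P.ψ m = (a : G) * u * (a : G)⁻¹ := e
  rcases hm with rfl | hm
  · rw [map_one, eq_comm, conj_eq_one_iff] at e'
    exact absurd e' (ne_one hu2)
  · obtain ⟨k, hk1, hk2, hk⟩ := V_conj m z hm isV_z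
    refine ⟨P.ψ k * a, mul_mem (P.even_mem H hH hk1 hk2) a.2, ?_⟩
    rw [← hk, map_mul, map_mul, map_inv, e']
    group

/-- The Brauer–Suzuki–Wall setting. -/
noncomputable def setting : CfsgLib.SectRank.BSW.Setting (P.sub H) where
  t := ⟨P.ψ z, (P.mem_sub_iff H hH).2 ⟨isV_z.1, V_sign z isV_z⟩⟩
  ht := by rw [← Subgroup.orderOf_coe]; exact P.toSetup.ord_of_sq (V_sq z isV_z).1 (V_sq z isV_z).2.1
  K := Subgroup.zpowers ⟨P.ψ z, (P.mem_sub_iff H hH).2 ⟨isV_z.1, V_sign z isV_z⟩⟩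
  hKab := inferInstance
  hKH := by rw [Subgroup.zpowers_le]; exact mem_centralizer_singleton.2 rfl
  htK := Subgroup.mem_zpowers _
  s := ⟨P.ψ w0, (P.mem_sub_iff H hH).2 ⟨isV_w0.1, V_sign w0 isV_w0⟩⟩
  hs := by rw [← Subgroup.orderOf_coe]; exact P.toSetup.ord_of_sq (V_sq w0 isV_w0).1 (V_sq w0 isV_w0).2.1
  hsH := mem_centralizer_singleton.2 (Subtype.ext (by
    show P.ψ w0 * P.ψ z = P.ψ z * P.ψ w0
    rw [← map_mul, ← map_mul, w0_comm]))
  hsK := by
    intro h
    obtain ⟨i, hi⟩ := Subgroup.mem_zpowers_iff.1 h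
    have hi' : P.ψ (z ^ i) = P.ψ w0 := by rw [map_zpow]; exact congrArg Subtype.val hi
    have hz2 : orderOf (z : Model) = 2 := orderOf_eq_two_iff.2 ⟨(V_sq z isV_z).1, (V_sq z isV_z).2.1⟩
    have := P.inj hi'
    rw [← zpow_mod_orderOf, hz2] at this
    rcases Int.emod_two_eq i with e | e <;> push_cast at this <;> rw [e] at this
    · rw [zpow_zero] at this; exact (V_sq w0 isV_w0).2.1 this.symm
    · rw [zpow_one] at this; exact w0_ne this.symm
  hH := by
    refine le_antisymm (sup_le ?_ ?_) ?_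
    · rw [Subgroup.zpowers_le]; exact mem_centralizer_singleton.2 rfl
    · rw [Subgroup.zpowers_le]
      exact mem_centralizer_singleton.2 (Subtype.ext (by
        show P.ψ w0 * P.ψ z = P.ψ z * P.ψ w0
        rw [← map_mul, ← map_mul, w0_comm]))
    · intro x hx
      obtain ⟨m, hm, e⟩ := P.cent_sub H hH isV_z x.2 (congrArg Subtype.val (mem_centralizer_singleton.1 hx))
      rcases VI_two w0 m isV_w0 w0_ne hm with rfl | rfl | rfl | rfl
      · have : x = 1 := Subtype.ext (e.symm.trans (map_one P.ψ))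
        rw [this]; exact one_mem _
      · exact Subgroup.mem_sup_left (Subgroup.mem_zpowers_iff.2 ⟨1, Subtype.ext (by simpa using e)⟩)
      · exact Subgroup.mem_sup_right (Subgroup.mem_zpowers_iff.2 ⟨1, Subtype.ext (by simpa using e)⟩)
      · have : x = ⟨P.ψ z, (P.mem_sub_iff H hH).2 ⟨isV_z.1, V_sign z isV_z⟩⟩ *
            ⟨P.ψ w0, (P.mem_sub_iff H hH).2 ⟨isV_w0.1, V_sign w0 isV_w0⟩⟩ :=
          Subtype.ext (by rw [← e, map_mul]; rfl)
        rw [this]
        exact Subgroup.mul_mem_sup (Subgroup.mem_zpowers _) (Subgroup.mem_zpowers _)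
  hCK := by
    refine le_antisymm inf_le_left (le_inf le_rfl ?_)
    rw [Subgroup.zpowers_le]
    exact mem_centralizer_singleton.2 (Subtype.ext (by
      show P.ψ z * P.ψ w0 = P.ψ w0 * P.ψ z
      rw [← map_mul, ← map_mul, w0_comm]))
  hinv := by
    intro x hx
    obtain ⟨i, rfl⟩ := Subgroup.mem_zpowers_iff.1 hx
    rw [← conj_zpow, ← inv_zpow]
    congr 1
    refine Subtype.ext ?_
    show P.ψ w0 * P.ψ z * (P.ψ w0)⁻¹ = (P.ψ z)⁻¹
    rw [← map_inv, ← map_inv, ← map_mul, ← map_mul, w0_inv]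
  hTI := by
    intro x hx
    rw [MonoidHom.map_zpowers]
    by_contra hne
    obtain ⟨y, ⟨hy, hy'⟩, hy1⟩ := (Subgroup.bot_or_exists_ne_one _).resolve_left hne
    set t' : P.sub H := ⟨P.ψ z, (P.mem_sub_iff H hH).2 ⟨isV_z.1, V_sign z isV_z⟩⟩ with ht'
    have ht2 : orderOf t' = 2 := by
      rw [← Subgroup.orderOf_coe]; exact P.toSetup.ord_of_sq (V_sq z isV_z).1 (V_sq z isV_z).2.1
    have hu : ∀ u : P.sub H, orderOf u = 2 → ∀ w ∈ Subgroup.zpowers u, w = 1 ∨ w = u := by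
      intro u hu w hw
      obtain ⟨i, rfl⟩ := Subgroup.mem_zpowers_iff.1 hw
      rw [← zpow_mod_orderOf, hu]
      rcases Int.emod_two_eq i with e | e <;> simp [e]
    have e1 := (hu t' ht2 y hy).resolve_left hy1
    have e2 := (hu _ ((orderOf_injective (MulAut.conj x).toMonoidHom (MulAut.conj x).injective t').trans ht2) y hy').resolve_left hy1
    rw [e1] at e2
    exact hx (mem_centralizer_singleton.2 (mul_inv_eq_iff_eq_mul.1 e2.symm))
  hconj := by
    intro x y hx hy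
    rw [← Subgroup.orderOf_coe] at hx hy
    obtain ⟨a, ha, ea⟩ := P.conj_z H hH x.2 hx
    obtain ⟨b, hb, eb⟩ := P.conj_z H hH y.2 hy
    refine isConj_iff.2 ⟨(⟨b, hb⟩ : P.sub H)⁻¹ * ⟨a, ha⟩, Subtype.ext ?_⟩
    show b⁻¹ * a * x * (b⁻¹ * a)⁻¹ = y
    rw [show b⁻¹ * a * (x : G) * (b⁻¹ * a)⁻¹ = b⁻¹ * (a * x * a⁻¹) * b by group, ea, ← eb]
    group

theorem card_cases : Nat.card (P.sub H) = 12 ∨
    (Nat.card (P.sub H) = 60 ∧ Nat.card {x : P.sub H // orderOf x = 2} = 15) := by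
  classical
  haveI := Fintype.ofFinite (P.sub H)
  have hk : (P.setting H hH).k = 2 := by
    rw [CfsgLib.SectRank.BSW.Setting.k]
    show Nat.card (Subgroup.zpowers _) = 2
    rw [Nat.card_zpowers, ← Subgroup.orderOf_coe]
    exact P.toSetup.ord_of_sq (V_sq z isV_z).1 (V_sq z isV_z).2.1
  have hG := (P.setting H hH).card_G
  rw [hk] at hG
  rcases (P.setting H hH).case_small hk with ⟨hv, -⟩ | ⟨hv, -⟩
  · left; rw [hG, hv]
  · exact Or.inr ⟨by rw [hG, hv], hv⟩

omit hH in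
/-- The image of `A₄`. -/
def A : Subgroup G := (((MonoidHom.fst _ _).ker ⊓
  (Equiv.Perm.sign.comp (MonoidHom.snd _ _)).ker : Subgroup Model)).map P.ψ

omit hH in
theorem mem_A {g : G} : g ∈ P.A ↔ ∃ m, (m.1 = 1 ∧ Equiv.Perm.sign m.2 = 1) ∧ P.ψ m = g := Subgroup.mem_map

omit hH in
theorem card_A : Nat.card P.A = 12 := by
  classical
  rw [A, Subgroup.card_map_of_injective P.inj, Nat.card_eq_fintype_card, Fintype.card_subtype]
  refine Eq.trans ?_ card_even
  congr 1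
  ext m
  simp only [Finset.mem_filter, Finset.mem_univ, true_and]
  rfl

theorem A_le : P.A ≤ P.sub H := by
  intro g hg
  obtain ⟨m, hm, rfl⟩ := P.mem_A.1 hg
  exact P.even_mem H hH hm.1 hm.2

omit hH in
theorem Q_le_A : P.Q ≤ P.A := by
  intro g hg
  obtain ⟨m, hm, rfl⟩ := P.mem_Q.1 hg
  refine P.mem_A.2 ⟨m, ?_, rfl⟩
  rcases hm with rfl | h
  · exact one_even
  · exact ⟨h.1, V_sign m h⟩

theorem four_mem_of_fix {k : G} (hk : k ∈ P.sub H) {v : Model} (hv : IsV v) {w : Model}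
    (hw : w.1 = 1 ∧ Equiv.Perm.sign w.2 = 1) (e : k⁻¹ * P.ψ v * k = P.ψ w) : k ∈ P.A := by
  have hww : w * w = 1 := P.inj (by
    rw [map_mul, ← e, show k⁻¹ * P.ψ v * k * (k⁻¹ * P.ψ v * k) = k⁻¹ * (P.ψ v * P.ψ v) * k by group,
      ← map_mul, (V_sq v hv).1, map_one, mul_one, inv_mul_cancel])
  have hwV : IsV w := by
    rcases even_involution w hw.1 hw.2 hww with rfl | h
    · rw [map_one] at e
      have h1 : P.ψ v = 1 := by
        calc P.ψ v = k * (k⁻¹ * P.ψ v * k) * k⁻¹ := by group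
          _ = 1 := by rw [e]; group
      exact absurd (P.inj (h1.trans (map_one P.ψ).symm)) (V_sq v hv).2.1
    · exact h
  obtain ⟨a, ha1, ha2, ha⟩ := V_conj v w hv hwV
  have hc : k * P.ψ a * P.ψ v = P.ψ v * (k * P.ψ a) := by
    have e1 : P.ψ a * P.ψ v = P.ψ w * P.ψ a := by rw [← map_mul, ← map_mul, ← ha]; group
    calc k * P.ψ a * P.ψ v = k * (P.ψ a * P.ψ v) := mul_assoc _ _ _
      _ = k * (k⁻¹ * P.ψ v * k * P.ψ a) := by rw [e1, e]
      _ = P.ψ v * (k * P.ψ a) := by group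
  obtain ⟨m, hm, e'⟩ := P.cent_sub H hH hv (mul_mem hk (P.even_mem H hH ha1 ha2)) hc
  have hQ : k * P.ψ a ∈ P.A := P.Q_le_A (P.mem_Q.2 ⟨m, hm, e'⟩)
  exact (Subgroup.mul_mem_cancel_right _ (P.mem_A.2 ⟨a, ⟨ha1, ha2⟩, rfl⟩)).1 hQ

theorem conj_t_mem {x : G} (hx : x ∈ P.sub H) : P.t * x * P.t⁻¹ ∈ P.sub H := by
  haveI := Fact.mk Nat.prime_two
  haveI := Subgroup.normal_of_index_eq_two P.index_two
  set H' : Subgroup G := (P.sub H).map (MulAut.conj P.t).toMonoidHom with hH'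
  have hH'le : H' ≤ P.G0 := by
    rintro _ ⟨y, hy, rfl⟩
    exact (inferInstance : P.G0.Normal).conj_mem y (P.sub_le H hy) _
  have hP0 : IsPGroup 2 ((P.toSetup.TV z ⊓ P.G0 : Subgroup G).subgroupOf P.G0) :=
    (IsPGroup.of_card (p := 2) (n := 3) (P.card_P0 isV_z)).comap_subtype
  obtain ⟨S, hS⟩ := hP0.exists_le_sylow
  have hc8 : Nat.card ((P.toSetup.TV z ⊓ P.G0 : Subgroup G).subgroupOf P.G0) = 8 :=
    (Nat.card_congr (Subgroup.subgroupOfEquivOfLe inf_le_right).toEquiv).trans (P.card_P0 isV_z)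
  have hSQ : (S : Subgroup P.G0) = (P.toSetup.TV z ⊓ P.G0 : Subgroup G).subgroupOf P.G0 := by
    refine (Subgroup.eq_of_le_of_card_ge hS ?_).symm
    rw [hc8]
    obtain ⟨n, hn⟩ := S.isPGroup'.exists_card_eq
    rw [hn]
    by_contra hlt
    have h4 : 4 ≤ n := by
      by_contra h4
      have := Nat.pow_le_pow_right (show 0 < 2 by norm_num) (show n ≤ 3 by omega)
      omega
    obtain ⟨j, hj⟩ := (pow_dvd_pow 2 h4).trans (hn ▸ Subgroup.card_subgroup_dvd_card (S : Subgroup P.G0))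
    exact P.toSetup.not_dvd_card ⟨j, by rw [P.card_G, hj]; ring⟩
  have hidx : (H'.subgroupOf P.G0).index = 2 := by
    have h1 := (H'.subgroupOf P.G0).card_mul_index
    rw [Nat.card_congr (Subgroup.subgroupOfEquivOfLe hH'le).toEquiv, hH',
      Subgroup.card_map_of_injective (MulAut.conj P.t).injective, sub,
      Subgroup.card_map_of_injective P.G0.subtype_injective, ← H.card_mul_index, hH] at h1
    exact Nat.eq_of_mul_eq_mul_left Nat.card_pos h1
  have heq := eq_of_index_two H (H'.subgroupOf P.G0) hH hidx S (by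
    intro y hy
    rw [hSQ, Subgroup.mem_subgroupOf] at hy
    obtain ⟨m, -, e⟩ := P.toSetup.mem_TV.1 hy.1
    rw [Subgroup.mem_subgroupOf, hH', Subgroup.mem_map]
    refine ⟨fun h => ⟨y, ⟨y, h, rfl⟩, ?_⟩, ?_⟩
    · show P.t * (y : G) * P.t⁻¹ = y
      rw [← e, ← P.toSetup.comm_t m, mul_inv_cancel_right]
    · rintro ⟨w, hw, e2⟩
      change P.t * w * P.t⁻¹ = (y : G) at e2
      have : w = y := by
        rw [show w = P.t⁻¹ * (P.t * w * P.t⁻¹) * P.t by group, e2, ← e, mul_assoc, P.toSetup.comm_t m]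
        group
      rw [this] at hw
      exact (P.mem_sub H y.2).1 hw)
  have hxG := P.sub_le H hx
  have hx' : P.t * x * P.t⁻¹ ∈ H' := ⟨x, hx, rfl⟩
  refine (P.mem_sub H (hH'le hx')).2 ?_
  rw [heq]
  exact hx'

/-- The conclusion: such a subgroup cannot exist unless `t` is central. -/
theorem centralizer_t_eq_top : Subgroup.centralizer ({P.t} : Set G) = ⊤ := by
  classical
  set X := P.sub H with hX
  rcases P.card_cases H hH with h | ⟨h60, hv⟩
  · refine Subgroup.eq_top_of_card_eq _ ?_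
    rw [P.toSetup.card_centralizer_t, ← P.card_sub H hH, h]
  exfalso
  have hzX : P.ψ z ∈ X := P.Q_le H hH (P.mem_Q.2 ⟨z, Or.inr isV_z, rfl⟩)
  -- all fifteen involutions cannot lie in `A`
  have hne15 : ¬ ∀ x : X, orderOf x = 2 → (x : G) ∈ P.A := by
    intro hall
    let S := {m : Model // IsV m}
    let f : {x : X // orderOf x = 2} → S := fun x =>
      ⟨Classical.choose (P.mem_A.1 (hall x.1 x.2)), by
        obtain ⟨⟨hm1, hm2⟩, e⟩ := Classical.choose_spec (P.mem_A.1 (hall x.1 x.2))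
        have ho : orderOf (Classical.choose (P.mem_A.1 (hall x.1 x.2))) = 2 := by
          rw [← orderOf_injective P.ψ P.inj, e, Subgroup.orderOf_coe, x.2]
        exact (even_involution _ hm1 hm2 (mul_self_eq_one ho)).resolve_left (ne_one ho)⟩
    have hinj : Function.Injective f := by
      intro x y e
      apply Subtype.ext; apply Subtype.ext
      rw [← (Classical.choose_spec (P.mem_A.1 (hall x.1 x.2))).2,
        ← (Classical.choose_spec (P.mem_A.1 (hall y.1 y.2))).2]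
      exact congrArg (fun s : S => P.ψ s.1) e
    have hle := Nat.card_le_card_of_injective f hinj
    rw [hv, Nat.card_eq_fintype_card, Fintype.card_subtype, card_V] at hle
    omega
  set A' : Subgroup X := P.A.subgroupOf X with hA'
  have hcardX : Nat.card (X ⧸ A') = 5 := by
    have := A'.card_mul_index
    rw [hA', Nat.card_congr (Subgroup.subgroupOfEquivOfLe (P.A_le H hH)).toEquiv, P.card_A, h60] at this
    show A'.index = 5
    rw [hA']; omega
  -- cosets outside `A`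
  let τ : X → X := fun k => ⟨P.t * (k : G) * P.t⁻¹, P.conj_t_mem H hH k.2⟩
  have hτmul : ∀ k l, τ (k * l) = τ k * τ l := fun k l => Subtype.ext (by
    show P.t * ((k : G) * l) * P.t⁻¹ = P.t * k * P.t⁻¹ * (P.t * l * P.t⁻¹)
    group)
  have hτψ : ∀ (m : Model) (hm : P.ψ m ∈ X), τ ⟨P.ψ m, hm⟩ = ⟨P.ψ m, hm⟩ := fun m hm =>
    Subtype.ext (by show P.t * P.ψ m * P.t⁻¹ = P.ψ m; rw [← P.toSetup.comm_t m, mul_inv_cancel_right])
  -- `τ` fixes every coset
  have hfix : ∀ k : X, k⁻¹ * τ k ∈ A' := by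
    -- a coset outside `A` fixed by `y3`
    obtain ⟨p, hp⟩ : ∃ p : X, (p : G) ∉ P.A := by
      by_contra hall
      push Not at hall
      exact hne15 fun x _ => hall x
    have hy3 : P.ψ y3 ∈ X := P.even_mem H hH y3_even.1 y3_even.2
    have hQX : ∀ {w : Model}, (w = 1 ∨ IsV w) → P.ψ w ∈ X := fun hw => P.Q_le H hH (P.mem_Q.2 ⟨_, hw, rfl⟩)
    -- the four-group acts freely
    have hfree : ∀ q : X, (q : G) ∉ P.A → ∀ u w : Model, (u = 1 ∨ IsV u) → (w = 1 ∨ IsV w) →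
        (P.ψ u * q)⁻¹ * (P.ψ w * q) ∈ P.A → u = w := by
      intro q hq u w hu hw hmem
      by_contra hne
      have huw : IsV (u * w) := by
        refine (VI_mul u w hu hw).resolve_left fun e => hne ?_
        rcases hu with rfl | hu
        · rw [one_mul] at e; exact e.symm
        · exact (mul_left_cancel (e.trans (V_sq u hu).1.symm)).symm
      obtain ⟨m, hm, e⟩ := P.mem_A.1 hmem
      refine hq (P.four_mem_of_fix H hH q.2 huw hm ?_)
      have hui : u⁻¹ = u := by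
        rcases hu with rfl | hu
        · exact inv_one
        · exact inv_eq_of_mul_eq_one_right (V_sq u hu).1
      rw [e, map_mul]
      nth_rewrite 2 [← hui]
      rw [map_inv]
      group
    have hcov : ∀ q : X, (q : G) ∉ P.A → ∃ u, (u = 1 ∨ IsV u) ∧ ((P.ψ u * (p : G))⁻¹ * q) ∈ P.A := by
      intro q hq
      let S := {m : Model // m = 1 ∨ IsV m}
      let f : Option S → X ⧸ A' := fun o => o.elim ((1 : X) : X ⧸ A') fun u =>
        ((⟨P.ψ u.1, hQX u.2⟩ * p : X) : X ⧸ A')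
      have hinj : Function.Injective f := by
        intro a b hab
        rcases a with _ | a <;> rcases b with _ | b
        · rfl
        · exfalso
          have h1 := QuotientGroup.eq.1 hab
          rw [inv_one, one_mul, hA', Subgroup.mem_subgroupOf] at h1
          exact hp ((Subgroup.mul_mem_cancel_left _ (P.Q_le_A (P.mem_Q.2 ⟨_, b.2, rfl⟩))).1 h1)
        · exfalso
          have h1 := QuotientGroup.eq.1 hab.symm
          rw [inv_one, one_mul, hA', Subgroup.mem_subgroupOf] at h1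
          exact hp ((Subgroup.mul_mem_cancel_left _ (P.Q_le_A (P.mem_Q.2 ⟨_, a.2, rfl⟩))).1 h1)
        · have h1 := QuotientGroup.eq.1 hab
          exact congrArg some (Subtype.ext (hfree p hp _ _ a.2 b.2 h1))
      have hsurj : Function.Surjective f := by
        refine (hinj.bijective_of_nat_card_le ?_).2
        rw [hcardX, Finite.card_option, Nat.card_eq_fintype_card, Fintype.card_subtype, card_VI]
      obtain ⟨o, ho⟩ := hsurj (q : X ⧸ A')
      rcases o with _ | u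
      · exfalso
        have h1 := QuotientGroup.eq.1 ho
        rw [inv_one, one_mul, hA', Subgroup.mem_subgroupOf] at h1
        exact hq h1
      · exact ⟨u.1, u.2, (QuotientGroup.eq.1 ho : _)⟩
    -- normalise the base coset to one fixed by `y3`
    obtain ⟨r, hr, hry⟩ : ∃ r : X, (r : G) ∉ P.A ∧ (r : G)⁻¹ * (P.ψ y3 * r) ∈ P.A := by
      have hyp : ((⟨P.ψ y3, hy3⟩ * p : X) : G) ∉ P.A := fun hh =>
        hp ((Subgroup.mul_mem_cancel_left _ (P.mem_A.2 ⟨y3, y3_even, rfl⟩)).1 hh)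
      obtain ⟨u, hu, hu'⟩ := hcov _ hyp
      obtain ⟨w, hw, hw'⟩ := y3_shift u hu
      refine ⟨⟨P.ψ w, hQX hw⟩ * p, fun hh =>
        hp ((Subgroup.mul_mem_cancel_left _ (P.Q_le_A (P.mem_Q.2 ⟨w, hw, rfl⟩))).1 hh), ?_⟩
      show (P.ψ w * (p : G))⁻¹ * (P.ψ y3 * (P.ψ w * p)) ∈ P.A
      have e : (P.ψ w * (p : G))⁻¹ * (P.ψ y3 * (P.ψ w * p)) =
          (P.ψ u * (p : G))⁻¹ * (P.ψ y3 * p) := by
        nth_rewrite 1 [← hw']
        simp only [map_mul, map_inv]
        group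
      rw [e]
      exact hu'
    have hτA : ∀ k : X, (τ k : G) ∈ P.A ↔ (k : G) ∈ P.A := by
      intro k
      constructor
      · intro hh
        obtain ⟨m, hm, e⟩ := P.mem_A.1 hh
        refine P.mem_A.2 ⟨m, hm, ?_⟩
        calc P.ψ m = P.t⁻¹ * (P.t * P.ψ m) := by group
          _ = P.t⁻¹ * (P.ψ m * P.t) := by rw [P.toSetup.comm_t m]
          _ = k := by rw [e]; show P.t⁻¹ * (P.t * k * P.t⁻¹ * P.t) = k; group
      · intro hh
        obtain ⟨m, hm, e⟩ := P.mem_A.1 hh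
        refine P.mem_A.2 ⟨m, hm, ?_⟩
        show P.ψ m = P.t * k * P.t⁻¹
        rw [← e, ← P.toSetup.comm_t m, mul_inv_cancel_right]
    obtain ⟨u, hu, hu'⟩ := hcov (τ r) (fun hh => hr ((hτA r).1 hh))
    obtain ⟨u₀, hu₀, hu₀'⟩ := hcov r hr
    -- `τ r` lies in a coset fixed by `y3`
    have hτry : (τ r : G)⁻¹ * (P.ψ y3 * τ r) ∈ P.A := by
      obtain ⟨m, hm, e⟩ := P.mem_A.1 hry
      refine P.mem_A.2 ⟨m, hm, ?_⟩
      calc P.ψ m = P.t * P.ψ m * P.t⁻¹ := by rw [← P.toSetup.comm_t m, mul_inv_cancel_right]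
        _ = (P.t * r * P.t⁻¹)⁻¹ * (P.t * P.ψ y3 * P.t⁻¹ * (P.t * r * P.t⁻¹)) := by rw [e]; group
        _ = _ := by rw [← P.toSetup.comm_t y3, mul_inv_cancel_right]
    -- so it is the coset of `r`
    have hτr : (r : G)⁻¹ * τ r ∈ P.A := by
      obtain ⟨d, hd, hd'⟩ : ∃ d, (d = 1 ∨ IsV d) ∧ (P.ψ d * (r : G))⁻¹ * τ r ∈ P.A := by
        refine ⟨u * u₀, VI_mul u u₀ hu hu₀, ?_⟩
        have hc : u₀ * u₀ = 1 := by
          rcases hu₀ with rfl | h
          · exact one_mul 1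
          · exact (V_sq _ h).1
        have e : (P.ψ (u * u₀) * (r : G))⁻¹ * τ r =
            ((P.ψ u₀ * (p : G))⁻¹ * r)⁻¹ * ((P.ψ u * (p : G))⁻¹ * τ r) := by
          rw [map_mul]
          have e2 : P.ψ u₀ = (P.ψ u₀)⁻¹ := by rw [← map_inv, inv_eq_of_mul_eq_one_right hc]
          nth_rewrite 1 [e2]
          group
        rw [e]
        exact mul_mem (inv_mem hu₀') hu'
      have hd1 : d = 1 := by
        refine y3_free d hd ?_
        refine (hfree r hr d (y3 * d * y3⁻¹) hd ?_ ?_).symm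
        · rcases hd with rfl | h
          · left; simp
          · exact Or.inr (V_conj' d y3 h)
        · have e : (P.ψ d * (r : G))⁻¹ * (P.ψ (y3 * d * y3⁻¹) * r) =
              (P.ψ d * (r : G))⁻¹ * τ r * ((τ r : G)⁻¹ * (P.ψ y3 * τ r)) *
                ((P.ψ d * (r : G))⁻¹ * τ r)⁻¹ * ((r : G)⁻¹ * (P.ψ y3 * r))⁻¹ := by
            simp only [map_mul, map_inv]; group
          rw [e]
          exact mul_mem (mul_mem (mul_mem hd' hτry) (inv_mem hd')) (inv_mem hry)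
      rw [hd1, map_one, one_mul] at hd'
      exact hd'
    intro k
    rw [hA', Subgroup.mem_subgroupOf]
    show (k : G)⁻¹ * τ k ∈ P.A
    by_cases hk : (k : G) ∈ P.A
    · exact mul_mem (inv_mem hk) ((hτA k).2 hk)
    obtain ⟨v, hv', hv''⟩ := hcov k hk
    -- `k = ψ (v u₀) r a`
    set d := v * u₀
    have hd : d = 1 ∨ IsV d := VI_mul v u₀ hv' hu₀
    have hka : ((⟨P.ψ d, hQX hd⟩ * r : X) : G)⁻¹ * k ∈ P.A := by
      show (P.ψ d * (r : G))⁻¹ * k ∈ P.A
      have hc : u₀ * u₀ = 1 := by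
        rcases hu₀ with rfl | h
        · exact one_mul 1
        · exact (V_sq _ h).1
      have e : (P.ψ d * (r : G))⁻¹ * k = ((P.ψ u₀ * (p : G))⁻¹ * r)⁻¹ * ((P.ψ v * (p : G))⁻¹ * k) := by
        rw [map_mul]
        have e2 : P.ψ u₀ = (P.ψ u₀)⁻¹ := by rw [← map_inv, inv_eq_of_mul_eq_one_right hc]
        nth_rewrite 1 [e2]
        group
      rw [e]
      exact mul_mem (inv_mem hu₀') hv''
    set a : X := (⟨P.ψ d, hQX hd⟩ * r)⁻¹ * k with ha
    have hk' : k = ⟨P.ψ d, hQX hd⟩ * r * a := by rw [ha, mul_inv_cancel_left]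
    have haA : (a : G) ∈ P.A := hka
    rw [hk', hτmul, hτmul, hτψ]
    show (P.ψ d * r * a)⁻¹ * (P.ψ d * τ r * τ a) ∈ P.A
    rw [show (P.ψ d * (r : G) * a)⁻¹ * (P.ψ d * τ r * τ a) = (a : G)⁻¹ * ((r : G)⁻¹ * τ r) * τ a by group]
    exact mul_mem (mul_mem (inv_mem haA) hτr) ((hτA a).2 haA)
  -- the core of `A` is trivial
  set R := A'.normalCore
  have hR : ∀ k : X, k⁻¹ * τ k ∈ R := by
    intro k l
    have h1 := hfix (k * l⁻¹)
    have h2 := hfix l⁻¹
    rw [hτmul] at h1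
    have e : l * (k⁻¹ * τ k) * l⁻¹ = (k * l⁻¹)⁻¹ * (τ k * τ l⁻¹) * ((l⁻¹)⁻¹ * τ l⁻¹)⁻¹ := by group
    show l * (k⁻¹ * τ k) * l⁻¹ ∈ A'
    rw [e]
    exact mul_mem h1 (inv_mem h2)
  have hRbot : R = ⊥ := by
    have hodd : ∀ x ∈ R, orderOf x ≠ 2 := by
      intro x hx ho
      apply hne15
      intro y hy
      obtain ⟨g, hg⟩ := isConj_iff.1 ((P.setting H hH).hconj x y ho hy)
      rw [← hg]
      exact A'.normalCore_le ((Subgroup.normalCore_normal A').conj_mem x hx g)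
    rw [Subgroup.eq_bot_iff_forall]
    intro x hx
    set zX : X := ⟨P.ψ z, hzX⟩ with hzX'
    have hc : x * zX = zX * x := by
      -- the commutator is an element of `R` in the four-group
      set y := x * zX * x⁻¹ * zX⁻¹ with hy
      have hyR : y ∈ R := by
        rw [hy, mul_assoc x zX, mul_assoc x]
        exact mul_mem hx ((Subgroup.normalCore_normal A').conj_mem x⁻¹ (inv_mem hx) zX)
      obtain ⟨m, hm, e⟩ := P.mem_A.1 (show (x : G) ∈ P.A from A'.normalCore_le hx)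
      have hy' : (y : G) = P.ψ (m * z * m⁻¹ * z⁻¹) := by
        simp only [map_mul, map_inv, e]; rfl
      have hVI : m * z * m⁻¹ * z⁻¹ = 1 ∨ IsV (m * z * m⁻¹ * z⁻¹) := by
        rw [inv_eq_of_mul_eq_one_right (V_sq z isV_z).1]
        exact VI_mul _ _ (Or.inr (V_conj' z m isV_z)) (Or.inr isV_z)
      rcases hVI with e1 | e1
      · rw [e1, map_one] at hy'
        have : y = 1 := Subtype.ext hy'
        rw [hy, mul_inv_eq_one, mul_inv_eq_iff_eq_mul] at this
        exact this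
      · refine absurd ?_ (hodd y hyR)
        rw [← Subgroup.orderOf_coe, hy']
        exact P.toSetup.ord_of_sq (V_sq _ e1).1 (V_sq _ e1).2.1
    obtain ⟨m, hm, e⟩ := P.cent_sub H hH isV_z x.2 (congrArg Subtype.val hc)
    rcases hm with rfl | hm
    · exact Subtype.ext (e.symm.trans (map_one P.ψ))
    · refine absurd ?_ (hodd x hx)
      rw [← Subgroup.orderOf_coe, ← e]
      exact P.toSetup.ord_of_sq (V_sq m hm).1 (V_sq m hm).2.1
  have hcent : X ≤ Subgroup.centralizer ({P.t} : Set G) := by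
    intro k hk
    have h1 := hR ⟨k, hk⟩
    rw [hRbot, Subgroup.mem_bot, inv_mul_eq_one] at h1
    have h2 : k = P.t * k * P.t⁻¹ := congrArg Subtype.val h1
    rw [mem_centralizer_singleton]
    conv_lhs => rw [h2]
    group
  have h48 := Subgroup.card_dvd_of_le hcent
  rw [h60, P.toSetup.card_centralizer_t] at h48
  omega

end Split

end CfsgLib.CoreFree.ZTwoSymFour
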