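import Mathlib.GroupTheory.Perm.Fin
import Mathlib.Data.ZMod.Basic
import Mathlib.GroupTheory.Perm.Sign
import Mathlib.Tactic

/-! # Facts about the finite model `Z₂ × S₄` -/

set_option autoImplicit false
set_option synthInstance.maxSize 4000
set_option maxHeartbeats 1000000

namespace CfsgLib.CoreFree.ZTwoSymFour

/-- The model group. -/
abbrev Model := Multiplicative (ZMod 2) × Equiv.Perm (Fin 4)

/-- The generator of the direct factor. -/
def c : Model := (Multiplicative.ofAdd 1, 1)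

/-- A double transposition. -/
abbrev IsV (m : Model) : Prop := m.1 = 1 ∧ m.2 * m.2 = 1 ∧ ∀ i, m.2 i ≠ i

/-- A transposition in the second coordinate. -/
abbrev IsSw (m : Model) : Prop := m.2 * m.2 = 1 ∧ m.2 ≠ 1 ∧ ∃ i, m.2 i = i

def z : Model := (1, Equiv.swap 0 2 * Equiv.swap 1 3)
def g4 : Model := (1, Equiv.swap 0 1 * Equiv.swap 1 2 * Equiv.swap 2 3)
def s2 : Model := (1, Equiv.swap 0 2)
def a1 : Model := (Multiplicative.ofAdd 1, Equiv.swap 0 1)
def a2 : Model := (Multiplicative.ofAdd 1, Equiv.swap 1 2)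
def a3 : Model := (Multiplicative.ofAdd 1, Equiv.swap 2 3)

theorem card_model : Fintype.card Model = 48 := by decide +kernel
theorem isV_z : IsV z := by decide +kernel
theorem card_cent_V : ∀ v : Model, IsV v → (Finset.univ.filter fun m => m * v = v * m).card = 16 := by
  decide +kernel
theorem cent_V_comm : ∀ v : Model, IsV v → ∀ m n : Model, m * v = v * m → n * v = v * n →
    m * n * m⁻¹ * n⁻¹ = 1 ∨ m * n * m⁻¹ * n⁻¹ = v := by
  decide +kernel
theorem cent_V_comm_ex : ∀ v : Model, IsV v →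
    ∃ m n : Model, m * v = v * m ∧ n * v = v * n ∧ m * n * m⁻¹ * n⁻¹ = v := by
  decide +kernel
theorem involution_cases : ∀ m : Model, m * m = 1 → m = 1 ∨ m = c ∨ IsV m ∨ IsV (c * m) ∨ IsSw m := by
  decide +kernel
theorem c_sq : c * c = (1 : Model) := by decide +kernel
theorem c_central : ∀ m : Model, c * m = m * c := by decide +kernel
theorem cent_all_V : ∀ m : Model, (∀ v, IsV v → m * v = v * m) → m = 1 ∨ m = c ∨ IsV m ∨ IsV (c * m) := by
  decide +kernel
theorem v_mul : ∀ v w : Model, IsV v → IsV w → v ≠ w → IsV (v * w) ∧ v * w ≠ v ∧ v * w ≠ w := by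
  decide +kernel
theorem exists_V : ∃ v w : Model, IsV v ∧ IsV w ∧ v ≠ w := by decide +kernel
theorem V_conj : ∀ v w : Model, IsV v → IsV w → ∃ m : Model, m.1 = 1 ∧ Equiv.Perm.sign m.2 = 1 ∧ m * v * m⁻¹ = w := by
  decide +kernel
theorem V_conj' : ∀ v m : Model, IsV v → IsV (m * v * m⁻¹) := by decide +kernel
theorem cV_conj : ∀ v w : Model, IsV v → IsV w → ∃ m : Model, m * (c * v) * m⁻¹ = c * w := by
  decide +kernel
theorem sw_conj : ∀ m n : Model, IsSw m → IsSw n → m.1 = n.1 → ∃ k : Model, k * m * k⁻¹ = n := by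
  decide +kernel
theorem sw_partner : ∀ m : Model, IsSw m → ∃ v, IsV v ∧ m * v = v * m ∧ IsSw (m * v) ∧ (m * v).1 = m.1 := by
  decide +kernel
theorem sw_ne : ∀ m : Model, IsSw m → ¬ IsV m ∧ ¬ IsV (c * m) ∧ m ≠ 1 ∧ m ≠ c := by decide +kernel
theorem isSw_cmul : ∀ m : Model, IsSw m → IsSw (c * m) ∧ (c * m).1 ≠ m.1 := by decide +kernel
theorem even_square : ∀ m : Model, m.1 = 1 → Equiv.Perm.sign m.2 = 1 → ∃ n : Model, n.1 = 1 ∧ n * n = m := by
  decide +kernel
theorem V_sign : ∀ m : Model, IsV m → Equiv.Perm.sign m.2 = 1 := by decide +kernel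

end CfsgLib.CoreFree.ZTwoSymFour

namespace CfsgLib.CoreFree.ZTwoSymFour

/-- The sign, with values in `Z₂`. -/
def sgnc : Equiv.Perm (Fin 4) →* Multiplicative (ZMod 2) :=
  MonoidHom.mk' (fun p => if Equiv.Perm.sign p = 1 then 1 else Multiplicative.ofAdd 1) (by decide +kernel)

/-- The automorphism of the model twisting by the sign. -/
def tw : Model →* Model :=
  MonoidHom.prod (MonoidHom.fst _ _ * sgnc.comp (MonoidHom.snd _ _)) (MonoidHom.snd _ _)

theorem tw_tw : ∀ m : Model, tw (tw m) = m := by decide +kernel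
theorem tw_c : tw c = c := by decide +kernel
theorem tw_V : ∀ v : Model, IsV v → tw v = v := by decide +kernel
theorem tw_sw : ∀ m : Model, IsSw m → tw m = c * m := by decide +kernel
theorem fst_two : ∀ e : Multiplicative (ZMod 2), e = 1 ∨ e = Multiplicative.ofAdd 1 := by decide +kernel
theorem c_fst : c.1 = Multiplicative.ofAdd 1 := rfl
theorem cmul_fst : ∀ m : Model, m.1 ≠ 1 → (c * m).1 = 1 := by decide +kernel
theorem isSw_s2 : IsSw s2 ∧ s2.1 = 1 := by decide +kernel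
theorem odd_mul_s2 : ∀ m : Model, m.1 = 1 → Equiv.Perm.sign m.2 ≠ 1 →
    (m * s2).1 = 1 ∧ Equiv.Perm.sign (m * s2).2 = 1 := by decide +kernel
theorem square_fst : ∀ m : Model, (m * m).1 = 1 := by decide +kernel

theorem fst_three : ∀ a b d : Multiplicative (ZMod 2), a ≠ b → d ≠ a → d = b := by decide +kernel

theorem ofAdd_sq : Multiplicative.ofAdd (1 : ZMod 2) ^ 2 = 1 := by decide +kernel
theorem ofAdd_ne : Multiplicative.ofAdd (1 : ZMod 2) ≠ 1 := by decide +kernel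

/-- An element of order 3. -/
def y3 : Model := (1, Equiv.swap 0 1 * Equiv.swap 1 2)

theorem cent_even : ∀ v m : Model, IsV v → m.1 = 1 → Equiv.Perm.sign m.2 = 1 → m * v = v * m → m = 1 ∨ IsV m := by
  decide +kernel
theorem even_involution : ∀ m : Model, m.1 = 1 → Equiv.Perm.sign m.2 = 1 → m * m = 1 → m = 1 ∨ IsV m := by
  decide +kernel
theorem y3_shift : ∀ v : Model, (v = 1 ∨ IsV v) → ∃ w : Model, (w = 1 ∨ IsV w) ∧ y3 * w * y3⁻¹ * v = w := by
  decide +kernel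
theorem y3_free : ∀ w : Model, (w = 1 ∨ IsV w) → y3 * w * y3⁻¹ = w → w = 1 := by decide +kernel
theorem y3_even : y3.1 = 1 ∧ Equiv.Perm.sign y3.2 = 1 := by decide +kernel
theorem one_even : (1 : Model).1 = 1 ∧ Equiv.Perm.sign (1 : Model).2 = 1 := by decide +kernel
theorem card_even : (Finset.univ.filter fun m : Model => m.1 = 1 ∧ Equiv.Perm.sign m.2 = 1).card = 12 := by
  decide +kernel
theorem card_VI : (Finset.univ.filter fun m : Model => m = 1 ∨ IsV m).card = 4 := by decide +kernel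
theorem card_V : (Finset.univ.filter fun m : Model => IsV m).card = 3 := by decide +kernel
theorem VI_mul : ∀ v w : Model, (v = 1 ∨ IsV v) → (w = 1 ∨ IsV w) → (v * w = 1 ∨ IsV (v * w)) := by decide +kernel
theorem VI_gen : ∀ m : Model, (m = 1 ∨ IsV m) → m = 1 ∨ m = z ∨ m = s2 * (1, Equiv.swap 1 3) ∨
    IsV m ∧ m ≠ z := by decide +kernel
theorem V_sq : ∀ v : Model, IsV v → v * v = 1 ∧ v ≠ 1 ∧ v.1 = 1 := by decide +kernel
theorem exists_V_ne : ∃ w : Model, IsV w ∧ w ≠ z := by decide +kernel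
theorem VI_two : ∀ w m : Model, IsV w → w ≠ z → (m = 1 ∨ IsV m) → m = 1 ∨ m = z ∨ m = w ∨ m = z * w := by
  decide +kernel

theorem card_cent_fst : ∀ v : Model, IsV v →
    (Finset.univ.filter fun m : Model => m * v = v * m ∧ m.1 = 1).card = 8 := by decide +kernel

/-- A second double transposition. -/
def w0 : Model := (1, Equiv.swap 0 1 * Equiv.swap 2 3)

theorem isV_w0 : IsV w0 := by decide +kernel
theorem w0_ne : w0 ≠ z := by decide +kernel
theorem w0_comm : w0 * z = z * w0 := by decide +kernel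
theorem w0_inv : w0 * z * w0⁻¹ = z⁻¹ := by decide +kernel

theorem g4_facts : g4.1 = 1 ∧ g4 * g4 = z ∧ orderOf g4 = 4 := by
  refine ⟨by decide +kernel, by decide +kernel, ?_⟩
  exact orderOf_eq_prime_pow (p := 2) (n := 1) (by decide +kernel) (by decide +kernel)
theorem s2_facts : s2.1 = 1 ∧ s2 * s2 = 1 ∧ s2 ≠ 1 ∧ s2 * g4 * s2⁻¹ = g4⁻¹ ∧ s2 * z = z * s2 ∧
    g4 ^ 0 ≠ s2 ∧ g4 ^ 1 ≠ s2 ∧ g4 ^ 2 ≠ s2 ∧ g4 ^ 3 ≠ s2 ∧ s2 * g4 ≠ g4 * s2 := by decide +kernel
theorem central_involution : ∀ m : Model, (∀ k, m * k = k * m) → m * m = 1 → m ≠ 1 → m = c := by decide +kernel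
theorem card_swc : (Finset.univ.filter fun m : Model => IsSw m ∧ m.1 = Multiplicative.ofAdd 1).card = 6 := by
  decide +kernel
theorem swc_no_both : ∀ m : Model, IsSw m → m.1 = Multiplicative.ofAdd 1 →
    m * a1 = a1 * m → m * a2 = a2 * m → False := by decide +kernel
theorem swc_unique : ∀ m : Model, IsSw m → m.1 = Multiplicative.ofAdd 1 →
    ∀ k l : Model, IsSw k → k.1 = Multiplicative.ofAdd 1 → IsSw l → l.1 = Multiplicative.ofAdd 1 →
    k ≠ m → l ≠ m → k * m = m * k → l * m = m * l → k = l := by decide +kernel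
theorem order_three_swc : ∀ y : Model, y * y * y = 1 → y ≠ 1 → y.1 = 1 ∧
    ∀ m : Model, IsSw m → m.1 = Multiplicative.ofAdd 1 →
      IsSw (y * m * y⁻¹) ∧ (y * m * y⁻¹).1 = Multiplicative.ofAdd 1 ∧ y * m * y⁻¹ ≠ m := by decide +kernel
theorem comm_lift : ∀ v w : Model, IsV v → (w = 1 ∨ IsV w) →
    IsV ((c * v) * (y3 * w) * (c * v)⁻¹ * (y3 * w)⁻¹) := by decide +kernel
theorem a_facts : (IsSw a1 ∧ a1.1 = Multiplicative.ofAdd 1) ∧ (IsSw a2 ∧ a2.1 = Multiplicative.ofAdd 1) ∧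
    (IsSw a3 ∧ a3.1 = Multiplicative.ofAdd 1) ∧ a1 * a2 ≠ a2 * a1 ∧ a2 * a3 ≠ a3 * a2 ∧ a1 * a3 = a3 * a1 ∧
    a1 * a1 = 1 ∧ a2 * a2 = 1 ∧ a3 * a3 = 1 ∧ a1 ≠ a2 ∧ a3 ≠ c ∧ a1 ≠ a3 ∧
    (a1 * a2) ^ 3 = 1 ∧ (a2 * a1) ^ 3 = 1 ∧ (a2 * a3) ^ 3 = 1 ∧ (a3 * a2) ^ 3 = 1 := by decide +kernel

end CfsgLib.CoreFree.ZTwoSymFour
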