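import Cfsg.Agent.Lib.CoreFree.ZTwoSymFour.Basic
import Cfsg.Agent.Lib.TwoFusion.TransferMod

/-! # The subgroup of index 2 avoiding the involution with centraliser `Z₂ × S₄` -/

set_option autoImplicit false

open CfsgLib.Involutions

namespace CfsgLib.CoreFree.ZTwoSymFour

variable {G : Type*} [Group G]

namespace Setup

/-- Twist the coordinates by the sign. -/
def twist (P : Setup G) : Setup G where
  ψ := P.ψ.comp tw
  inj := P.inj.comp (Function.LeftInverse.injective (g := tw) tw_tw)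
  range g hg := by
    simp only [MonoidHom.comp_apply, tw_c] at hg
    obtain ⟨m, rfl⟩ := P.range g hg
    exact ⟨tw m, by simp [tw_tw]⟩
  vcent v hv g hg := by
    simp only [MonoidHom.comp_apply, tw_V v hv] at hg
    obtain ⟨m, hm, rfl⟩ := P.vcent v hv g hg
    refine ⟨tw m, ?_, by simp [tw_tw]⟩
    have := congrArg tw hm
    rwa [map_mul, map_mul, tw_V v hv] at this
  sylow := P.sylow

theorem twist_t (P : Setup G) : P.twist.t = P.t := by
  simp only [t, twist, MonoidHom.comp_apply, tw_c]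

/-- Transpositions of both kinds are not both conjugate to `t`. -/
theorem not_both [Finite G] (P : Setup G) {m : Model} (hm : IsSw m) {g h : G}
    (h1 : g * P.t * g⁻¹ = P.ψ m) (h2 : h * P.t * h⁻¹ = P.ψ (c * m)) : False := by
  obtain ⟨v, hv, hmv, hsw, hfst⟩ := sw_partner m hm
  obtain ⟨x, hx⟩ := P.range (g⁻¹ * P.ψ v * g) (by
    rw [show P.ψ c = g⁻¹ * P.ψ m * g by rw [← h1]; show P.t = _; group]
    calc g⁻¹ * P.ψ v * g * (g⁻¹ * P.ψ m * g) = g⁻¹ * P.ψ (v * m) * g := by rw [map_mul]; group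
      _ = g⁻¹ * P.ψ m * g * (g⁻¹ * P.ψ v * g) := by rw [← hmv, map_mul]; group)
  have hxx : x * x = 1 := P.inj (by
    rw [map_mul, hx, map_one, show g⁻¹ * P.ψ v * g * (g⁻¹ * P.ψ v * g) = g⁻¹ * P.ψ (v * v) * g by rw [map_mul]; group,
      show v * v = 1 from Prod.ext (by simp [hv.1]) hv.2.1, map_one]
    group)
  have hgx : g * P.ψ x * g⁻¹ = P.ψ v := by rw [hx]; group
  obtain ⟨k1, hk1⟩ := sw_conj _ _ hsw hm hfst
  rcases involution_cases x hxx with rfl | rfl | hxV | hxV | hxS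
  · rw [map_one, mul_one, mul_inv_cancel, ← map_one P.ψ] at hgx
    rw [← P.inj hgx] at hv
    exact absurd rfl (hv.2.2 0)
  · exact P.not_conj_V hv g hgx
  · refine P.not_conj_cV hxV (g⁻¹ * (P.ψ k1)⁻¹ * g) ?_
    calc g⁻¹ * (P.ψ k1)⁻¹ * g * P.t * (g⁻¹ * (P.ψ k1)⁻¹ * g)⁻¹
        = g⁻¹ * (P.ψ k1)⁻¹ * (g * P.t * g⁻¹) * P.ψ k1 * g := by group
      _ = g⁻¹ * P.ψ (m * v) * g := by
        have e : m * v = k1⁻¹ * m * k1 := by
          conv_rhs => rw [← hk1]
          group
        rw [h1, e, map_mul, map_mul, map_inv]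
        group
      _ = P.t * P.ψ x := by rw [map_mul, hx, ← h1]; group
      _ = P.ψ (c * x) := by rw [t, map_mul]
  · refine P.not_conj_V_cV hv hxV g⁻¹ ?_
    rw [← mul_assoc, c_sq, one_mul, hx, inv_inv]
  · by_cases hfe : x.1 = m.1
    · obtain ⟨k, hk⟩ := sw_conj _ _ hm hxS hfe.symm
      refine P.not_conj_V hv (g * P.ψ k * g) ?_
      rw [← hgx, ← hk, map_mul, map_mul, map_inv, ← h1]
      group
    · obtain ⟨k, hk⟩ := sw_conj _ _ (isSw_cmul m hm).1 hxS
        (fst_three _ _ _ (isSw_cmul m hm).2.symm hfe).symm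
      refine P.not_conj_V hv (g * P.ψ k * h) ?_
      rw [← hgx, ← hk, map_mul, map_mul, map_inv, ← h2]
      group

end Setup

open Setup in
/-- Transfer: if no `(0, σ)` is conjugate to `t` then some homomorphism to `Z₂` is nontrivial at `t`. -/
theorem exists_transfer [Finite G] (P : Setup G)
    (hsw : ∀ m, IsSw m → m.1 = 1 → ∀ g : G, g * P.t * g⁻¹ ≠ P.ψ m) :
    ∃ f : G →* Multiplicative (ZMod 2), f P.t = Multiplicative.ofAdd 1 := by
  classical
  haveI := Fact.mk Nat.prime_two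
  set S := P.syl isV_z with hS
  have hSr : ∀ x : (S : Subgroup G), ∃ m, P.ψ m = (x : G) := fun x => by
    obtain ⟨m, -, hm⟩ := P.mem_TV.1 (P.coe_syl isV_z ▸ x.2 : (x : G) ∈ P.TV z)
    exact ⟨m, hm⟩
  choose r hr using hSr
  let φ : (S : Subgroup G) →* Multiplicative (ZMod 2) := MonoidHom.mk' (fun x => (r x).1) fun x y => by
    rw [← Prod.fst_mul]
    exact congrArg Prod.fst (P.inj (by rw [map_mul, hr, hr, hr]; rfl))
  have hφ : ∀ (x : (S : Subgroup G)) (m : Model), P.ψ m = (x : G) → φ x = m.1 := fun x m e =>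
    congrArg Prod.fst (P.inj ((hr x).trans e.symm))
  have htS : P.t ∈ (S : Subgroup G) := by rw [hS, P.coe_syl isV_z]; exact P.t_mem_TV z
  have hφt : φ ⟨P.t, htS⟩ = Multiplicative.ofAdd 1 := hφ _ c rfl
  have key : ∀ (k : ℕ) (a : G) (h : a * P.t ^ k * a⁻¹ ∈ (S : Subgroup G)),
      φ ⟨a * P.t ^ k * a⁻¹, h⟩ = φ ⟨P.t, htS⟩ ^ k := by
    intro k a h
    rw [hφt]
    have ht2 : P.t * P.t = 1 := CfsgLib.Involutions.mul_self_eq_one P.ord_t
    rcases Nat.even_or_odd' k with ⟨j, rfl | rfl⟩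
    · rw [hφ ⟨_, h⟩ 1 (by simp [pow_mul, pow_two, ht2]), pow_mul,
        ofAdd_sq, one_pow]
      rfl
    · have e : a * P.t ^ (2 * j + 1) * a⁻¹ = a * P.t * a⁻¹ := by
        rw [pow_succ, pow_mul, pow_two, ht2, one_pow, one_mul]
      rw [pow_succ (Multiplicative.ofAdd (1 : ZMod 2)), pow_mul,
        ofAdd_sq, one_pow, one_mul]
      obtain ⟨m, hm⟩ : ∃ m, P.ψ m = a * P.t * a⁻¹ := by
        obtain ⟨m, -, hm⟩ := P.mem_TV.1 (P.coe_syl isV_z ▸ (e ▸ h) : a * P.t * a⁻¹ ∈ P.TV z)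
        exact ⟨m, hm⟩
      rw [hφ ⟨_, h⟩ m (hm.trans e.symm)]
      have hmm : m * m = 1 := P.inj (by
        rw [map_mul, hm, map_one, show a * P.t * a⁻¹ * (a * P.t * a⁻¹) = a * (P.t * P.t) * a⁻¹ by group, ht2]
        group)
      rcases involution_cases m hmm with rfl | rfl | hV | hV | hW
      · rw [map_one, eq_comm, conj_eq_one_iff] at hm
        exact absurd hm (CfsgLib.Involutions.ne_one P.ord_t)
      · rfl
      · exact absurd hm.symm (P.not_conj_V hV a)
      · refine absurd ?_ (P.not_conj_cV hV a)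
        rw [← mul_assoc, c_sq, one_mul, hm]
      · exact (fst_two m.1).resolve_left fun h1 => hsw m hW h1 a hm.symm
  refine ⟨φ.transfer, (fst_two _).resolve_left (CfsgLib.TwoFusion.transfer_ne_one_of_controlled (p := 2)
    Nat.prime_two (Nat.prime_two.coprime_iff_not_dvd.2 S.not_dvd_index) φ P.t htS
    ⟨1, by rw [pow_one]; exact P.ord_t⟩ (by rw [hφt]; exact ofAdd_ne) key)⟩

/-- A set-up with a normal subgroup of index 2 meeting the centraliser in `S₄`. -/
structure Split (G : Type*) [Group G] extends Setup G where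
  G0 : Subgroup G
  index_two : G0.index = 2
  mem_iff : ∀ m, ψ m ∈ G0 ↔ m.1 = 1

/-- Coordinates can be chosen so that a normal subgroup of index 2 meets the centraliser in `S₄`. -/
theorem exists_split [Finite G] (P₀ : Setup G) : ∃ Q : Split G, Q.toSetup.t = P₀.t := by
  classical
  obtain ⟨f, hf⟩ : ∃ f : G →* Multiplicative (ZMod 2), f P₀.t = Multiplicative.ofAdd 1 := by
    by_cases hc : ∀ m, IsSw m → m.1 = 1 → ∀ g : G, g * P₀.t * g⁻¹ ≠ P₀.ψ m
    · exact exists_transfer P₀ hc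
    · push Not at hc
      obtain ⟨m, hm, hm1, g, hg⟩ := hc
      obtain ⟨f, hf⟩ := exists_transfer P₀.twist (fun m' hm' hm'1 g' hg' => by
        rw [Setup.twist_t, Setup.twist] at hg'
        simp only [MonoidHom.comp_apply, tw_sw m' hm'] at hg'
        obtain ⟨k, hk⟩ := sw_conj m m' hm hm' (hm1.trans hm'1.symm)
        refine P₀.not_both hm' (g := P₀.ψ k * g) (h := g') ?_ hg'
        rw [← hk, map_mul, map_mul, map_inv, ← hg]; group)
      exact ⟨f, by rw [← Setup.twist_t]; exact hf⟩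
  obtain ⟨Q, hQt, hQ⟩ : ∃ Q : Setup G, Q.t = P₀.t ∧ f (Q.ψ s2) = 1 := by
    rcases fst_two (f (P₀.ψ s2)) with h | h
    · exact ⟨P₀, rfl, h⟩
    · refine ⟨P₀.twist, P₀.twist_t, ?_⟩
      show f (P₀.ψ (tw s2)) = 1
      rw [tw_sw s2 isSw_s2.1, map_mul, map_mul, show f (P₀.ψ c) = f P₀.t from rfl, hf, h]
      decide +kernel
  rw [← hQt] at hf
  refine ⟨⟨Q, f.ker, ?_, fun m => ?_⟩, hQt⟩
  · rw [Subgroup.index_ker]
    have hle : Nat.card f.range ≤ 2 :=
      (Nat.le_of_dvd Nat.card_pos (Subgroup.card_subgroup_dvd_card _)).trans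
        (by rw [Nat.card_eq_fintype_card]; rfl)
    have hne : Nat.card f.range ≠ 1 := fun e => by
      rw [Subgroup.card_eq_one] at e
      have : f Q.t ∈ (⊥ : Subgroup (Multiplicative (ZMod 2))) := e ▸ ⟨_, rfl⟩
      rw [Subgroup.mem_bot, hf] at this
      exact absurd this (by decide +kernel)
    have := Nat.card_pos (α := f.range)
    omega
  · have h1 : ∀ n : Model, n.1 = 1 → f (Q.ψ n) = 1 := by
      have hev : ∀ n : Model, n.1 = 1 → Equiv.Perm.sign n.2 = 1 → f (Q.ψ n) = 1 := by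
        intro n a b
        obtain ⟨k, -, rfl⟩ := even_square n a b
        rw [map_mul, map_mul]
        rcases fst_two (f (Q.ψ k)) with e | e <;> rw [e] <;> decide +kernel
      intro n hn
      by_cases hs : Equiv.Perm.sign n.2 = 1
      · exact hev n hn hs
      · have := hev _ (odd_mul_s2 n hn hs).1 (odd_mul_s2 n hn hs).2
        rwa [map_mul, map_mul, hQ, mul_one] at this
    rw [MonoidHom.mem_ker]
    refine ⟨fun h => ?_, h1 m⟩
    by_contra hm
    have := h1 _ (cmul_fst m hm)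
    rw [map_mul, map_mul, show f (Q.ψ c) = f Q.t from rfl, hf, h, mul_one] at this
    exact absurd this (by decide +kernel)

end CfsgLib.CoreFree.ZTwoSymFour
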