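import Cfsg.Agent.Lib.CoreFree.ZTwoSymFour.Conjugates
import Cfsg.Agent.Lib.Generators.CoxeterSn
import Mathlib.GroupTheory.SpecificGroups.Alternating.Simple

/-! # Identification with the symmetric group of degree 6 -/

set_option autoImplicit false
set_option linter.unusedSectionVars false

open CfsgLib.Involutions

namespace CfsgLib.CoreFree.ZTwoSymFour

variable {G : Type*} [Group G] [Finite G] (P : Split G)
variable (hne : Subgroup.centralizer ({P.toSetup.t} : Set G) ≠ ⊤)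
include hne

namespace Split

/-- Two non-commuting conjugates of `t` have product of order dividing 3. -/
theorem pair_cube {a b : G} (ha : P.IsC a) (hb : P.IsC b) (hab : a * b ≠ b * a) : (a * b) ^ 3 = 1 := by
  obtain ⟨g, rfl⟩ := isConj_iff.1 ha
  set t := P.toSetup.t
  have hb' : P.IsC (g⁻¹ * b * g) := by simpa [inv_inv] using P.isC_conj hb g⁻¹
  have h : (g⁻¹ * b * g) ∈ P.far := ⟨hb', fun e => hab (by
    calc g * t * g⁻¹ * b = g * (t * (g⁻¹ * b * g)) * g⁻¹ := by group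
      _ = g * (g⁻¹ * b * g * t) * g⁻¹ := by rw [e]
      _ = b * (g * t * g⁻¹) := by group)⟩
  have := P.cube_eq_one hne h
  calc (g * t * g⁻¹ * b) ^ 3 = (g * (t * (g⁻¹ * b * g)) * g⁻¹) ^ 3 := by group
    _ = 1 := by rw [conj_pow, this, mul_one, mul_inv_cancel]

theorem nonempty_equiv : Nonempty (G ≃* Equiv.Perm (Fin 6)) := by
  classical
  haveI := Fact.mk Nat.prime_three
  obtain ⟨h360, hnear, -, h6⟩ := P.counts hne
  obtain ⟨⟨ha1, ha1'⟩, ⟨ha2, ha2'⟩, ⟨ha3, ha3'⟩, n12, n23, c13, s1, s2', s3, d12, d3c, d13, p12, p21, p23, p32⟩ := a_facts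
  set t := P.toSetup.t with ht
  have h1 := hnear a1 ha1 ha1'
  have h2 := hnear a2 ha2 ha2'
  have h3 := hnear a3 ha3 ha3'
  obtain ⟨g, hg⟩ : ∃ g : G, g * P.ψ a1 * g⁻¹ = t := by
    obtain ⟨h, e⟩ := isConj_iff.1 h1
    exact ⟨h⁻¹, by rw [← e, ht]; group⟩
  set u₀ := g * P.ψ a2 * g⁻¹ with hu₀
  have hu₀C : P.IsC u₀ := P.isC_conj h2 g
  have hu₀far : u₀ ∈ P.far := ⟨hu₀C, fun e => by
    apply n12
    apply P.inj
    rw [map_mul, map_mul]
    show P.ψ a1 * P.ψ a2 = P.ψ a2 * P.ψ a1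
    rw [← ht, ← hg, hu₀] at e
    calc P.ψ a1 * P.ψ a2 = g⁻¹ * (g * P.ψ a1 * g⁻¹ * (g * P.ψ a2 * g⁻¹)) * g := by group
      _ = g⁻¹ * (g * P.ψ a2 * g⁻¹ * (g * P.ψ a1 * g⁻¹)) * g := by rw [e]
      _ = P.ψ a2 * P.ψ a1 := by group⟩
  set w := g * t * g⁻¹ with hw
  have htne : ∀ {m : Model}, IsSw m → P.ψ m ≠ t := fun hm e => (sw_ne _ hm).2.2.2 (P.inj e)
  have hwt : w ≠ t := fun e => by
    refine htne ha1 ?_
    calc P.ψ a1 = g⁻¹ * (g * P.ψ a1 * g⁻¹) * g := by group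
      _ = g⁻¹ * w * g := by rw [hg, e]
      _ = t := by rw [hw]; group
  have hwc : w * t = t * w := by
    calc w * t = g * t * g⁻¹ * (g * P.ψ a1 * g⁻¹) := by rw [hg]
      _ = g * (t * P.ψ a1) * g⁻¹ := by group
      _ = g * (P.ψ a1 * t) * g⁻¹ := by rw [P.toSetup.comm_t a1]
      _ = g * P.ψ a1 * g⁻¹ * (g * t * g⁻¹) := by group
      _ = t * w := by rw [hg]
  obtain ⟨mw, hmw, hmwe⟩ := P.isC_comm (P.isC_conj (IsConj.refl _) g) hwc hwt
  have hwu : w * u₀ = u₀ * w := by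
    rw [hw, hu₀]
    calc g * t * g⁻¹ * (g * P.ψ a2 * g⁻¹) = g * (t * P.ψ a2) * g⁻¹ := by group
      _ = g * (P.ψ a2 * t) * g⁻¹ := by rw [P.toSetup.comm_t a2]
      _ = _ := by group
  obtain ⟨⟨y, hyW⟩, hy⟩ := exists_prime_orderOf_dvd_card' (G := P.stab u₀) 3 (by rw [h6 u₀ hu₀far]; norm_num)
  rw [← Subgroup.orderOf_coe] at hy
  change orderOf y = 3 at hy
  have hy3 : y * y * y = 1 := by
    have := pow_orderOf_eq_one y
    rwa [hy, pow_succ, pow_two] at this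
  obtain ⟨-, hyswap⟩ := order_three_swc y hy3 (fun e => by rw [e, orderOf_one] at hy; omega)
  obtain ⟨hm', hm'1, hm'ne⟩ := hyswap mw hmw.1 hmw.2
  set w' := P.ψ (y * mw * y⁻¹) with hw'
  have hw'C : P.IsC w' := hnear _ hm' hm'1
  have hw'u : w' * u₀ = u₀ * w' := by
    have hyu := P.mem_stab.1 hyW
    rw [hw', map_mul, map_mul, map_inv]
    have hwu' : P.ψ mw * u₀ = u₀ * P.ψ mw := hmwe.symm ▸ hwu
    calc P.ψ y * P.ψ mw * (P.ψ y)⁻¹ * u₀ = P.ψ y * P.ψ mw * ((P.ψ y)⁻¹ * (u₀ * P.ψ y)) * (P.ψ y)⁻¹ := by group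
      _ = P.ψ y * (P.ψ mw * u₀) * (P.ψ y)⁻¹ := by rw [← hyu]; group
      _ = P.ψ y * u₀ * P.ψ mw * (P.ψ y)⁻¹ := by rw [hwu']; group
      _ = u₀ * (P.ψ y * P.ψ mw * (P.ψ y)⁻¹) := by rw [hyu]; group
  set X := g⁻¹ * w' * g with hX
  have hXC : P.IsC X := by simpa [hX, inv_inv] using P.isC_conj hw'C g⁻¹
  have conjcomm : ∀ a b : G, a * b = b * a → g⁻¹ * a * g * (g⁻¹ * b * g) = g⁻¹ * b * g * (g⁻¹ * a * g) := by
    intro a b e
    calc g⁻¹ * a * g * (g⁻¹ * b * g) = g⁻¹ * (a * b) * g := by group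
      _ = _ := by rw [e]; group
  have hX1 : X * P.ψ a1 = P.ψ a1 * X := by
    have := conjcomm w' t (P.toSetup.comm_t _)
    rwa [show g⁻¹ * t * g = P.ψ a1 by rw [← hg]; group] at this
  have hX2 : X * P.ψ a2 = P.ψ a2 * X := by
    have := conjcomm w' u₀ hw'u
    rwa [show g⁻¹ * u₀ * g = P.ψ a2 by rw [hu₀]; group] at this
  have hXt : X ≠ t := fun e => by
    apply hm'ne
    apply P.inj
    rw [← hw', hmwe, ← ht, ← e, hX]
    group
  have hXfar : X * t ≠ t * X := fun e => by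
    obtain ⟨m, ⟨hm, hm1⟩, hme⟩ := P.isC_comm hXC e hXt
    rw [← hme, ← map_mul, ← map_mul] at hX1 hX2
    exact swc_no_both m hm hm1 (P.inj hX1) (P.inj hX2)
  have hX3 : X * P.ψ a3 ≠ P.ψ a3 * X := fun e => by
    set q := g * P.ψ a3 * g⁻¹ with hq
    have hqt : q * t = t * q := by
      rw [hq, ← hg]
      calc g * P.ψ a3 * g⁻¹ * (g * P.ψ a1 * g⁻¹) = g * P.ψ (a3 * a1) * g⁻¹ := by rw [map_mul]; group
        _ = g * P.ψ (a1 * a3) * g⁻¹ := by rw [c13]
        _ = _ := by rw [map_mul]; group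
    have hqne : q ≠ t := fun e' => d13 (P.inj (by
      calc P.ψ a1 = g⁻¹ * t * g := by rw [← hg]; group
        _ = P.ψ a3 := by rw [← e', hq]; group))
    obtain ⟨mq, hmq, hmqe⟩ := P.isC_comm (P.isC_conj h3 g) hqt hqne
    have hwq : mw ≠ mq := fun e' => htne ha3 (by
      have : w = q := (hmwe.symm.trans (congrArg P.ψ e')).trans hmqe
      calc P.ψ a3 = g⁻¹ * q * g := by rw [hq]; group
        _ = t := by rw [← this, hw]; group)
    have hw'q : y * mw * y⁻¹ ≠ mq := fun e' => n23 (P.inj (by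
      have h0 : X = P.ψ a3 := by rw [hX, hw', e', hmqe]; group
      rw [h0] at hX2
      rw [map_mul, map_mul]
      exact hX2.symm))
    have e1 : mw * mq = mq * mw := P.inj (by
      rw [map_mul, map_mul, hmwe, hmqe]
      calc g * t * g⁻¹ * (g * P.ψ a3 * g⁻¹) = g * (t * P.ψ a3) * g⁻¹ := by group
        _ = g * (P.ψ a3 * t) * g⁻¹ := by rw [P.toSetup.comm_t a3]
        _ = _ := by rw [ht]; group)
    have e2 : y * mw * y⁻¹ * mq = mq * (y * mw * y⁻¹) := P.inj (by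
      rw [map_mul P.ψ (y * mw * y⁻¹) mq, map_mul P.ψ mq (y * mw * y⁻¹), hmqe, ← hw', show w' = g * X * g⁻¹ by rw [hX]; group]
      calc g * X * g⁻¹ * (g * P.ψ a3 * g⁻¹) = g * (X * P.ψ a3) * g⁻¹ := by group
        _ = g * (P.ψ a3 * X) * g⁻¹ := by rw [e]
        _ = _ := by group)
    exact hm'ne (swc_unique mq hmq.1 hmq.2 _ _ hm' hm'1 hmw.1 hmw.2 hw'q hwq e2 e1)
  -- the Coxeter relations
  obtain ⟨cs, hcs⟩ := CfsgLib.Generators.exists_coxeterSystem_perm 5
  let f : Fin 5 → G := ![P.ψ a1, P.ψ a2, P.ψ a3, X, t]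
  have hsq : ∀ {a : G}, P.IsC a → (a * a) = 1 := fun ha => mul_self_eq_one (P.isC_order ha)
  have htC : P.IsC t := IsConj.refl _
  have hfC : ∀ i, P.IsC (f i) := fun i => by
    fin_cases i
    exacts [h1, h2, h3, hXC, htC]
  have comm2 : ∀ {a b : G}, P.IsC a → P.IsC b → a * b = b * a → (a * b) ^ 2 = 1 := fun ha hb e => by
    rename_i a b
    rw [pow_two, mul_assoc, ← mul_assoc b a b, ← e, mul_assoc, hsq hb, mul_one, hsq ha]
  have cube : ∀ {a b : G}, P.IsC a → P.IsC b → a * b ≠ b * a → (a * b) ^ 3 = 1 :=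
    fun ha hb e => P.pair_cube hne ha hb e
  have m12 : P.ψ a1 * P.ψ a2 ≠ P.ψ a2 * P.ψ a1 := fun e => n12 (P.inj (by rw [map_mul, map_mul]; exact e))
  have m23 : P.ψ a2 * P.ψ a3 ≠ P.ψ a3 * P.ψ a2 := fun e => n23 (P.inj (by rw [map_mul, map_mul]; exact e))
  have m13 : P.ψ a1 * P.ψ a3 = P.ψ a3 * P.ψ a1 := by rw [← map_mul, ← map_mul, c13]
  have hlift : (CoxeterMatrix.A 5).IsLiftable f := by
    intro i j
    have hcase : (CoxeterMatrix.A 5) i j =
        if i = j then 1 else (if (j : ℕ) + 1 = i ∨ (i : ℕ) + 1 = j then 3 else 2) := rfl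
    rw [hcase]
    fin_cases i <;> fin_cases j <;> simp [f] <;>
      first
        | exact hsq (hfC 0) | exact hsq (hfC 1) | exact hsq (hfC 2) | exact hsq (hfC 3) | exact hsq (hfC 4)
        | exact cube h1 h2 m12 | exact cube h2 h1 (Ne.symm m12)
        | exact cube h2 h3 m23 | exact cube h3 h2 (Ne.symm m23)
        | exact cube h3 hXC (Ne.symm hX3) | exact cube hXC h3 hX3
        | exact cube hXC htC hXfar | exact cube htC hXC (Ne.symm hXfar)
        | exact comm2 h1 h3 m13 | exact comm2 h3 h1 m13.symm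
        | exact comm2 h1 hXC hX1.symm | exact comm2 hXC h1 hX1
        | exact comm2 h2 hXC hX2.symm | exact comm2 hXC h2 hX2
        | exact comm2 h1 htC (P.toSetup.comm_t a1) | exact comm2 htC h1 (P.toSetup.comm_t a1).symm
        | exact comm2 h2 htC (P.toSetup.comm_t a2) | exact comm2 htC h2 (P.toSetup.comm_t a2).symm
        | exact comm2 h3 htC (P.toSetup.comm_t a3) | exact comm2 htC h3 (P.toSetup.comm_t a3).symm
  set ρ := cs.lift ⟨f, hlift⟩ with hρdef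
  have hρ : ∀ i, ρ (cs.simple i) = f i := fun i => cs.lift_apply_simple hlift i
  have hinj : Function.Injective ρ := by
    rw [← MonoidHom.ker_eq_bot_iff]
    by_contra hk
    have hle := Equiv.Perm.alternatingGroup_le_of_normal (α := Fin 6)
      (by rw [Nat.card_eq_fintype_card]; simp) ((Subgroup.nontrivial_iff_ne_bot _).2 hk)
    have hmem : cs.simple 0 * cs.simple 1 ∈ alternatingGroup (Fin 6) := by
      rw [hcs, hcs, Equiv.Perm.mem_alternatingGroup]
      decide +kernel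
    have h := hle hmem
    rw [MonoidHom.mem_ker, map_mul, hρ, hρ] at h
    change P.ψ a1 * P.ψ a2 = 1 at h
    apply d12
    apply P.inj
    rw [mul_eq_one_iff_eq_inv.1 h, ← map_inv, inv_eq_of_mul_eq_one_right s2']
  have hcard : Nat.card (Equiv.Perm (Fin 6)) = Nat.card G := by
    rw [P.card_G, h360, Nat.card_eq_fintype_card, Fintype.card_perm, Fintype.card_fin]
    rfl
  exact ⟨(MulEquiv.ofBijective ρ (hinj.bijective_of_nat_card_le hcard.ge)).symm⟩

end Split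

end CfsgLib.CoreFree.ZTwoSymFour
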